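import Groth.Prelude.Def_LogNCD
import Groth.Agent.H29Omega.DerLocal
import Groth.Agent.H17.OmegaLocal
import Groth.Agent.H17.PrinOmega
import Mathlib

/-!
# Coordinates of an étale chart and sections of a universal receptacle
-/

set_option autoImplicit false
set_option linter.style.haveILetI false
set_option backward.isDefEq.respectTransparency false

universe u

open CategoryTheory CategoryTheory.Limits AlgebraicGeometry TopologicalSpace Opposite

namespace Groth.Agent.H27LogNCD

variable {X S : Scheme.{u}}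

theorem app_res_der {f : X ⟶ S} {Ω : X.Modules} (d : OmegaSh.Der f Ω) {U V : X.Opens} (e : V ≤ U) (s : Γ(X, U)) :
    d.app V (X.presheaf.map (homOfLE e).op s) = Ω.presheaf.map (homOfLE e).op (d.app U s) :=
  d.d_map _ s

/-- Sections of a universal receptacle over an affine open over an affine open are spanned freely
by the differentials: the comparison map from Kähler differentials is bijective. -/
theorem bijective_desc_qs {f : X ⟶ S} [QuasiSeparated f] {Ω : X.Modules} (d : OmegaSh.Der f Ω)
    (hd : OmegaSh.IsUniversal d) {U : X.Opens} (hU : IsAffineOpen U) {V : S.Opens} (hV : IsAffineOpen V)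
    (h : U ≤ f ⁻¹ᵁ V) : Function.Bijective (H17.PrinOmega.derOn f d V U h).desc := by
  obtain ⟨α, hα, -⟩ := H17.PrinOmega.isUniversal_dOmega f Ω d
  obtain ⟨β, hβ, -⟩ := hd _ (OmegaSh.dOmega f)
  haveI : IsIso α := by
    refine ⟨β, (H17.PrinOmega.isUniversal_dOmega f _ (OmegaSh.dOmega f)).unique ?_ ?_, (hd _ d).unique ?_ ?_⟩
    · ext ⟨W⟩ s
      have h1 : α.app W ((OmegaSh.dOmega f).app W s) = d.app W s :=
        PresheafOfModules.Derivation.congr_d hα (X := op W) s
      have h2 : β.app W (d.app W s) = (OmegaSh.dOmega f).app W s :=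
        PresheafOfModules.Derivation.congr_d hβ (X := op W) s
      exact (congrArg (β.app W) h1).trans h2
    · ext ⟨W⟩ s; rfl
    · ext ⟨W⟩ s
      have h1 : α.app W ((OmegaSh.dOmega f).app W s) = d.app W s :=
        PresheafOfModules.Derivation.congr_d hα (X := op W) s
      have h2 : β.app W (d.app W s) = (OmegaSh.dOmega f).app W s :=
        PresheafOfModules.Derivation.congr_d hβ (X := op W) s
      exact (congrArg (α.app W) h2).trans h1
    · ext ⟨W⟩ s; rfl
  let αU : OmAff.sectMod (Omega.sheaf f) U ⟶ OmAff.sectMod Ω U :=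
    ModuleCat.ofHom { toFun := α.app U, map_add' := map_add _, map_smul' := fun r m => α.app_smul r m }
  have e : (H17.PrinOmega.derOn f d V U h).desc = OmAff.toSect f V U h ≫ αU := by
    refine CommRingCat.KaehlerDifferential.ext fun b => ?_
    rw [ModuleCat.Derivation.desc_d, ConcreteCategory.comp_apply, OmAff.toSect_d]
    exact (PresheafOfModules.Derivation.congr_d hα (X := op U) b).symm
  haveI := H17.OmegaLocal.isIso_toSect f hU hV h
  haveI : IsIso αU := by
    rw [ConcreteCategory.isIso_iff_bijective]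
    exact ConcreteCategory.bijective_of_isIso (α.app U)
  rw [e]
  exact ConcreteCategory.bijective_of_isIso _

/-- The same on sections, for any morphism: `Ω(U)` is spanned freely by `d v_j` when the `v_j` are étale
coordinates of `U` over the affine base. -/
theorem bijective_of_etale_qs {f : X ⟶ S} [QuasiSeparated f] {Ω : X.Modules} (d : OmegaSh.Der f Ω)
    (hd : OmegaSh.IsUniversal d) {U : X.Opens} (hU : IsAffineOpen U) {V : S.Opens} (hV : IsAffineOpen V)
    (h : U ≤ f ⁻¹ᵁ V) {σ : Type u} [Fintype σ] (v : σ → Γ(X, U))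
    (het : (MvPolynomial.eval₂Hom (f.appLE V U h).hom v).Etale) :
    Function.Bijective fun c : σ → Γ(X, U) => ∑ j, c j • d.app U (v j) := by
  classical
  letI := (f.appLE V U h).hom.toAlgebra
  letI := (MvPolynomial.eval₂Hom (f.appLE V U h).hom v).toAlgebra
  haveI : IsScalarTower Γ(S, V) (MvPolynomial σ Γ(S, V)) Γ(X, U) :=
    IsScalarTower.of_algebraMap_eq fun a => (MvPolynomial.eval₂Hom_C _ _ a).symm
  haveI : Algebra.Etale (MvPolynomial σ Γ(S, V)) Γ(X, U) := het
  let b : Module.Basis σ Γ(X, U) Ω[Γ(X, U)⁄Γ(S, V)] :=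
    ((KaehlerDifferential.mvPolynomialBasis Γ(S, V) σ).baseChange Γ(X, U)).map
      (KaehlerDifferential.tensorKaehlerEquivOfFormallyEtale Γ(S, V) (MvPolynomial σ Γ(S, V)) Γ(X, U))
  have hb : ∀ j, b j = KaehlerDifferential.D Γ(S, V) Γ(X, U) (v j) := fun j => by
    have h1 : KaehlerDifferential.mvPolynomialBasis Γ(S, V) σ j =
        KaehlerDifferential.D _ _ (MvPolynomial.X j) := by
      apply (KaehlerDifferential.mvPolynomialBasis Γ(S, V) σ).repr.injective
      rw [Module.Basis.repr_self, KaehlerDifferential.mvPolynomialBasis_repr_D_X]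
    simp [b, h1, RingHom.algebraMap_toAlgebra]
  let L : Ω[Γ(X, U)⁄Γ(S, V)] →ₗ[Γ(X, U)] Γ(Ω, U) := (H17.PrinOmega.derOn f d V U h).desc.hom
  have hL : Function.Bijective L := bijective_desc_qs d hd hU hV h
  have hLd : ∀ j, L (b j) = d.app U (v j) := fun j => by
    rw [hb]
    exact (H17.PrinOmega.derOn f d V U h).desc_d (v j)
  have e : (fun c : σ → Γ(X, U) => ∑ j, c j • d.app U (v j)) = L ∘ b.equivFun.symm := by
    funext c
    simp only [Function.comp_apply, Module.Basis.equivFun_symm_apply, map_sum, map_smul, hLd]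
  rw [e]
  exact hL.comp b.equivFun.symm.bijective

theorem etale_comp_bijective {A B C : Type u} [CommRing A] [CommRing B] [CommRing C] {φ : A →+* B} (hφ : φ.Etale)
    {e : B →+* C} (he : Function.Bijective e) : (e.comp φ).Etale :=
  RingHom.Etale.stableUnderComposition φ e hφ (RingHom.Etale.of_bijective he)

/-- `Ω(U)` is freely spanned by `d v_j` when the `v_j` are étale coordinates of the affine `U` over an
affine of the base (no separation hypothesis). -/
theorem bijective_of_etale {f : X ⟶ S} {Ω : X.Modules} (d : OmegaSh.Der f Ω) (hd : OmegaSh.IsUniversal d)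
    {U : X.Opens} (hU : IsAffineOpen U) {V : S.Opens} (hV : IsAffineOpen V) (h : U ≤ f ⁻¹ᵁ V)
    {σ : Type u} [Fintype σ] (v : σ → Γ(X, U))
    (het : (MvPolynomial.eval₂Hom (f.appLE V U h).hom v).Etale) :
    Function.Bijective fun c : σ → Γ(X, U) => ∑ j, c j • d.app U (v j) := by
  classical
  haveI : IsAffine U.toScheme := hU
  suffices key : ∀ (U' : X.Opens) (_ : U' = U.ι ''ᵁ ⊤) (h : U' ≤ f ⁻¹ᵁ V) (v : σ → Γ(X, U')),
      (MvPolynomial.eval₂Hom (f.appLE V U' h).hom v).Etale →
        Function.Bijective fun c : σ → Γ(X, U') => ∑ j, c j • d.app U' (v j) from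
    key U (U.ι_image_top).symm h v het
  rintro U' rfl h v het
  let j := U.ι
  let α := (j.appIso ⊤).hom
  have hα : Function.Bijective α := ConcreteCategory.bijective_of_isIso α
  have hle : (⊤ : U.toScheme.Opens) ≤ (j ≫ f) ⁻¹ᵁ V := fun y _ => h ⟨y, trivial, rfl⟩
  have e : MvPolynomial.eval₂Hom ((j ≫ f).appLE V ⊤ hle).hom (fun i => α (v i)) =
      α.hom.comp (MvPolynomial.eval₂Hom (f.appLE V (j ''ᵁ ⊤) h).hom v) := by
    refine MvPolynomial.ringHom_ext (fun a => ?_) fun i => ?_
    · simp only [RingHom.comp_apply, MvPolynomial.eval₂Hom_C, α, Scheme.Hom.appIso_hom']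
      rw [← CommRingCat.comp_apply, Scheme.Hom.appLE_comp_appLE]
    · simp only [RingHom.comp_apply, MvPolynomial.eval₂Hom_X']
  have hb := bijective_of_etale_qs (f := j ≫ f) (H29Omega.restrDer j d) (H29Omega.isUniversal_restrDer j d hd)
    (isAffineOpen_top U.toScheme) hV hle (fun i => α (v i)) (e ▸ etale_comp_bijective het hα)
  let ρ : Γ(Ω.restrict j, ⊤) → Γ(Ω, j ''ᵁ ⊤) := (Ω.restrictAppIso j ⊤).hom
  have hρ : Function.Bijective ρ := ConcreteCategory.bijective_of_isIso (Ω.restrictAppIso j ⊤).hom
  have hc : Function.Bijective fun c : σ → Γ(X, j ''ᵁ ⊤) => fun i => α (c i) :=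
    (Equiv.piCongrRight fun _ : σ => Equiv.ofBijective α hα).bijective
  have hcomp := hρ.comp (hb.comp hc)
  convert hcomp using 1
  funext c
  simp only [Function.comp_apply, ρ, map_sum]
  refine Finset.sum_congr rfl fun i _ => ?_
  erw [Scheme.Modules.smul_restrictAppIso_hom_apply]
  congr 1
  · exact (congr($((j.appIso ⊤).hom_inv_id) (c i))).symm
  · show d.app (j ''ᵁ ⊤) (v i) = (Ω.restrictAppIso j ⊤).hom ((Ω.restrictAppIso j ⊤).inv
      (d.app (j ''ᵁ ⊤) ((j.appIso ⊤).inv.hom (α (v i)))))
    rw [Iso.inv_hom_id_apply]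
    exact congrArg _ (congr($((j.appIso ⊤).hom_inv_id) (v i))).symm

/-- Étale coordinates on `W` give étale algebras on every affine open below. -/
theorem etale_eval₂ {σ : Type u} (f : X ⟶ S) (W : X.Opens) (v : σ → Γ(W, ⊤))
    (het : Etale (AffineSpace.homOfVector (W.ι ≫ f) v)) {V : X.Opens} (hV : IsAffineOpen V) (hVW : V ≤ W)
    {V0 : S.Opens} (hV0 : IsAffineOpen V0) (h : V ≤ f ⁻¹ᵁ V0) :
    (MvPolynomial.eval₂Hom (f.appLE V0 V h).hom fun j => LogNCD.sectOn W hVW (v j)).Etale := by
  classical
  haveI : IsAffine V0.toScheme := hV0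
  haveI : IsAffine V.toScheme := hV
  let q := X.homOfLE hVW
  let w : σ → Γ(V, ⊤) := fun j => q.appTop (v j)
  let g0 : V.toScheme ⟶ V0.toScheme := f.resLE V0 V h
  have hg0 : g0 ≫ V0.ι = V.ι ≫ f := Scheme.Hom.resLE_comp_ι f h
  have he : AffineSpace.homOfVector g0 w ≫ AffineSpace.map σ V0.ι =
      q ≫ AffineSpace.homOfVector (W.ι ≫ f) v := by
    rw [AffineSpace.comp_homOfVector]
    apply AffineSpace.hom_ext
    · rw [Category.assoc, AffineSpace.map_over, AffineSpace.homOfVector_over_assoc, hg0,
        AffineSpace.homOfVector_over, ← Category.assoc, Scheme.homOfLE_ι]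
    · intro i
      rw [AffineSpace.homOfVector_appTop_coord]
      simp only [Scheme.Hom.comp_appTop, CommRingCat.comp_apply, AffineSpace.map_appTop_coord,
        AffineSpace.homOfVector_appTop_coord]
      rfl
  haveI : IsOpenImmersion (AffineSpace.map σ V0.ι) :=
    MorphismProperty.of_isPullback (P := @IsOpenImmersion) (AffineSpace.isPullback_map V0.ι).flip inferInstance
  haveI : Etale (AffineSpace.homOfVector g0 w ≫ AffineSpace.map σ V0.ι) := by rw [he]; infer_instance
  haveI : Etale (AffineSpace.homOfVector g0 w) := Etale.of_comp _ (AffineSpace.map σ V0.ι)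
  let ψ := AffineSpace.homOfVector g0 w ≫ (AffineSpace.isoOfIsAffine σ V0.toScheme).hom
  have hψ : (ψ.appTop).hom.Etale :=
    (HasRingHomProperty.iff_of_isAffine (P := @Etale)).mp (inferInstance : Etale ψ)
  let R' := Γ(V0.toScheme, ⊤)
  let t := (Scheme.ΓSpecIso (CommRingCat.of (MvPolynomial σ R'))).inv
  have ht : t.hom.Etale := RingHom.Etale.of_bijective (ConcreteCategory.bijective_of_isIso t)
  let a := V0.topIso.inv
  have ha : (MvPolynomial.map (σ := σ) a.hom).Etale :=
    RingHom.Etale.of_bijective ((MvPolynomial.mapEquiv σ V0.topIso.symm.commRingCatIsoToRingEquiv).bijective)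
  have key : MvPolynomial.eval₂Hom (f.appLE V0 V h).hom (fun j => LogNCD.sectOn W hVW (v j)) =
      V.topIso.hom.hom.comp (ψ.appTop.hom.comp (t.hom.comp (MvPolynomial.map a.hom))) := by
    have hψt : ∀ p, ψ.appTop.hom (t.hom p) = MvPolynomial.eval₂Hom g0.appTop.hom w p := by
      intro p
      simp only [ψ, Scheme.Hom.comp_appTop, AffineSpace.isoOfIsAffine_hom_appTop]
      show (AffineSpace.homOfVector g0 w).appTop (MvPolynomial.eval₂Hom _ (AffineSpace.coord V0.toScheme)
        ((Scheme.ΓSpecIso (CommRingCat.of (MvPolynomial σ R'))).hom (t p))) = _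
      rw [Iso.inv_hom_id_apply]
      induction p using MvPolynomial.induction_on with
      | C r =>
        simp only [MvPolynomial.eval₂Hom_C]
        rw [← CommRingCat.comp_apply, ← Scheme.Hom.comp_appTop, AffineSpace.homOfVector_over]
        exact (MvPolynomial.eval₂Hom_C _ _ r).symm
      | add p q hp hq => simp only [map_add, hp, hq]
      | mul_X p i hp => simp only [map_mul, hp, MvPolynomial.eval₂Hom_X', AffineSpace.homOfVector_appTop_coord]
    refine MvPolynomial.ringHom_ext (fun r => ?_) fun i => ?_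
    · simp only [RingHom.comp_apply, MvPolynomial.map_C, MvPolynomial.eval₂Hom_C]
      rw [RingHom.comp_apply, MvPolynomial.map_C, hψt, MvPolynomial.eval₂Hom_C]
      show _ = (V0.topIso.inv ≫ g0.appTop ≫ V.topIso.hom) r
      simp only [g0, Scheme.Hom.appTop, Scheme.Hom.resLE_app_top, Category.assoc, Iso.inv_hom_id_assoc,
        Iso.inv_hom_id, Category.comp_id]
    · simp only [RingHom.comp_apply, MvPolynomial.map_X, MvPolynomial.eval₂Hom_X']
      rw [RingHom.comp_apply, MvPolynomial.map_X, hψt, MvPolynomial.eval₂Hom_X']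
      show (W.topIso.hom ≫ X.presheaf.map (homOfLE hVW).op) (v i) = (q.appTop ≫ V.topIso.hom) (v i)
      congr 2
      simp [q, Scheme.Opens.topIso_hom, ← Functor.map_comp]
  rw [key]
  refine etale_comp_bijective ?_ (ConcreteCategory.bijective_of_isIso V.topIso.hom)
  exact RingHom.Etale.stableUnderComposition _ _ (RingHom.Etale.stableUnderComposition _ _ ha ht) hψ

end Groth.Agent.H27LogNCD
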