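import Groth.Agent.H27LogNCD.Chart
import Mathlib

/-!
# Construction of the sheaf of differentials with logarithmic poles
-/

set_option autoImplicit false
set_option linter.style.haveILetI false
set_option backward.isDefEq.respectTransparency false

universe u

open CategoryTheory CategoryTheory.Limits AlgebraicGeometry TopologicalSpace Opposite

namespace Groth.Agent.H27LogNCD

variable {X S : Scheme.{u}} {r : ℕ} {D : Fin r → X.IdealSheafData} {f : X ⟶ S} {Ω : X.Modules}
  {d : OmegaSh.Der f Ω}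

theorem rs_rs {U V W : X.Opens} (e : V ≤ U) (e' : W ≤ V) (s : Γ(X, U)) :
    rs e' (rs e s) = rs (e'.trans e) s := by
  simp only [rs]
  rw [← CommRingCat.comp_apply, ← Functor.map_comp]
  rfl

theorem map_mapM {M : X.Modules} {U V W : X.Opens} (e : V ≤ U) (e' : W ≤ V) (s : Γ(M, U)) :
    M.presheaf.map (homOfLE e').op (M.presheaf.map (homOfLE e).op s) =
      M.presheaf.map (homOfLE (e'.trans e)).op s := by
  rw [← ConcreteCategory.comp_apply, ← Functor.map_comp]
  rfl

theorem app_mapM {M N : X.Modules} (φ : M ⟶ N) {U V : X.Opens} (e : V ≤ U) (s : Γ(M, U)) :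
    φ.app V (M.presheaf.map (homOfLE e).op s) = N.presheaf.map (homOfLE e).op (φ.app U s) :=
  congr($(φ.mapPresheaf.naturality (homOfLE e).op) s)

theorem ideal_res {U V : X.Opens} (hU : IsAffineOpen U) (hV : IsAffineOpen V) (e : V ≤ U)
    {I : X.IdealSheafData} {g : Γ(X, U)} (h : I.ideal ⟨U, hU⟩ = Ideal.span {g}) :
    I.ideal ⟨V, hV⟩ = Ideal.span {rs e g} := by
  rw [← I.map_ideal' (U := ⟨V, hV⟩) (V := ⟨U, hU⟩) (homOfLE e).op, h, Ideal.map_span, Set.image_singleton]

/-- The class of a function on the component. -/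
noncomputable def cls (D : Fin r → X.IdealSheafData) (i : Fin r) (V : X.Opens) (a : Γ(X, V)) :
    Γ(ClSub.quotMod (D i), V) :=
  (ClSub.toSubscheme (D i)).app V (OmegaSh.strSect X V a)

theorem cls_eq_zero {V : X.Opens} (hV : IsAffineOpen V) {i : Fin r} {a : Γ(X, V)}
    (ha : a ∈ (D i).ideal ⟨V, hV⟩) : cls D i V a = 0 := by
  rw [← Scheme.IdealSheafData.ker_subschemeι_app, RingHom.mem_ker] at ha
  exact ha

theorem mem_ideal_of_cls_eq_zero {V : X.Opens} (hV : IsAffineOpen V) {i : Fin r} {a : Γ(X, V)}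
    (ha : cls D i V a = 0) : a ∈ (D i).ideal ⟨V, hV⟩ := by
  rw [← Scheme.IdealSheafData.ker_subschemeι_app, RingHom.mem_ker]
  exact ha

theorem cls_surjective {V : X.Opens} (hV : IsAffineOpen V) (i : Fin r) : Function.Surjective (cls D i V) :=
  fun t => (D i).subschemeι_app_surjective ⟨V, hV⟩ t

theorem cls_add (i : Fin r) (V : X.Opens) (a b : Γ(X, V)) : cls D i V (a + b) = cls D i V a + cls D i V b := by
  rw [cls, cls, cls, map_add]
  exact map_add ((ClSub.toSubscheme (D i)).app V).hom _ _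

theorem cls_sub (i : Fin r) (V : X.Opens) (a b : Γ(X, V)) : cls D i V (a - b) = cls D i V a - cls D i V b := by
  rw [cls, cls, cls, map_sub]
  exact map_sub ((ClSub.toSubscheme (D i)).app V).hom _ _

theorem cls_zero (i : Fin r) (V : X.Opens) : cls D i V 0 = 0 := by
  rw [cls, map_zero]
  exact map_zero ((ClSub.toSubscheme (D i)).app V).hom

theorem cls_mul (i : Fin r) (V : X.Opens) (c a : Γ(X, V)) : cls D i V (c * a) = c • cls D i V a := by
  rw [cls, cls, ← Scheme.Modules.Hom.app_smul]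
  rfl

theorem cls_res (i : Fin r) {U V : X.Opens} (e : V ≤ U) (a : Γ(X, U)) :
    cls D i V (rs e a) = (ClSub.quotMod (D i)).presheaf.map (homOfLE e).op (cls D i U a) :=
  app_mapM (ClSub.toSubscheme (D i)) e (OmegaSh.strSect X U a)

/-- Two representations on a good open give the same classes. -/
theorem cls_unique {V : X.Opens} {g₁ g g' : Fin r → Γ(X, V)} (hg₁ : Good D d V g₁)
    (hI : ∀ i, (D i).ideal ⟨V, hg₁.affine⟩ = Ideal.span {g i})
    (hI' : ∀ i, (D i).ideal ⟨V, hg₁.affine⟩ = Ideal.span {g' i})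
    {s : Γ(sing D Ω, V)} {η η' : Γ(Ω, V)} {a a' : Fin r → Γ(X, V)}
    (h : Rep D d g s η a) (h' : Rep D d g' s η' a') (i : Fin r) : cls D i V (a i) = cls D i V (a' i) := by
  obtain ⟨u, hu⟩ := exists_units hg₁ hI
  obtain ⟨u', hu'⟩ := exists_units hg₁ hI'
  obtain ⟨c, hc⟩ := (h.change u hu).dvd_sub hg₁ (h'.change u' hu') i
  rw [← sub_eq_zero, ← cls_sub, hc]
  refine cls_eq_zero hg₁.affine ?_
  rw [hg₁.ideal i]
  exact Ideal.mem_span_singleton.2 (dvd_mul_right _ _)

/-- Sections which locally have logarithmic representations. -/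
def IsLog (d : OmegaSh.Der f Ω) {W : X.Opens} (s : Γ(sing D Ω, W)) : Prop :=
  ∀ x ∈ W, ∃ (V : X.Opens) (hV : IsAffineOpen V) (e : V ≤ W) (g : Fin r → Γ(X, V)), x ∈ V ∧
    (∀ i, (D i).ideal ⟨V, hV⟩ = Ideal.span {g i}) ∧
      ∃ η a, Rep D d g ((sing D Ω).presheaf.map (homOfLE e).op s) η a

theorem IsLog.map {W W' : X.Opens} {s : Γ(sing D Ω, W)} (hs : IsLog d s) (h : W' ≤ W) :
    IsLog d ((sing D Ω).presheaf.map (homOfLE h).op s) := by
  intro x hx
  obtain ⟨V, hV, e, g, hxV, hI, η, a, hrep⟩ := hs x (h hx)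
  obtain ⟨_, ⟨V', hV', rfl⟩, hxV', hle⟩ :=
    X.isBasis_affineOpens.exists_subset_of_mem_open (show x ∈ V ⊓ W' from ⟨hxV, hx⟩) (V ⊓ W').2
  have h1 : V' ≤ V := fun y hy => (hle hy).1
  have h2 : V' ≤ W' := fun y hy => (hle hy).2
  refine ⟨V', hV', h2, fun i => rs h1 (g i), hxV', fun i => ideal_res hV hV' h1 (hI i),
    Ω.presheaf.map (homOfLE h1).op η, fun i => rs h1 (a i), ?_⟩
  rw [map_mapM]
  have := hrep.restrict h1
  rwa [map_mapM] at this

/-- Sections with local representations are represented in the equations of any chart. -/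
theorem IsLog.normal {W W₁ : X.Opens} {s : Γ(sing D Ω, W)} (hs : IsLog d s) {g₁ : Fin r → Γ(X, W₁)}
    (hc : IsChart D d W₁ g₁) {x : X} (hx : x ∈ W) (hx₁ : x ∈ W₁) :
    ∃ (V : X.Opens) (e : V ≤ W) (e₁ : V ≤ W₁), x ∈ V ∧ IsAffineOpen V ∧
      ∃ η a, Rep D d (fun i => rs e₁ (g₁ i)) ((sing D Ω).presheaf.map (homOfLE e).op s) η a := by
  obtain ⟨V, hV, e, g, hxV, hI, η, a, hrep⟩ := hs x hx
  obtain ⟨_, ⟨V', hV', rfl⟩, hxV', hle⟩ :=
    X.isBasis_affineOpens.exists_subset_of_mem_open (show x ∈ V ⊓ W₁ from ⟨hxV, hx₁⟩) (V ⊓ W₁).2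
  have h1 : V' ≤ V := fun y hy => (hle hy).1
  have h2 : V' ≤ W₁ := fun y hy => (hle hy).2
  obtain ⟨u, hu⟩ := exists_units (hc V' hV' h2) (fun i => ideal_res hV hV' h1 (hI i))
  have := (hrep.restrict h1).change u hu
  rw [map_mapM] at this
  exact ⟨V', h1.trans e, h2, hxV', hV', _, _, this⟩

variable (D) (d) (hd : OmegaSh.IsUniversal d) (hD : LogNCD.IsNCD D f)

include hd hD in
theorem isLog_zero (W : X.Opens) : IsLog d (0 : Γ(sing D Ω, W)) := by
  intro x hx
  obtain ⟨V, g, hxV, hle, hV, hc⟩ := exists_chart hd hD x W hx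
  refine ⟨V, hV, hle, fun i => rs le_rfl (g i), hxV, (hc V hV le_rfl).ideal, 0, 0, ?_⟩
  rw [map_zero]
  simpa using Rep.of_form (d := d) (D := D) (fun i => rs le_rfl (g i)) (0 : Γ(Ω, V))

/-- The submodule of logarithmic forms. -/
noncomputable def logPre : PresheafOfModules.Submodule (sing D Ω).val where
  obj W :=
    { carrier := {s | IsLog d (W := W.unop) s}
      add_mem' := fun {s s'} hs hs' x hx => by
        obtain ⟨W₁, g₁, hx₁, hle, hW₁, hc⟩ := exists_chart hd hD x W.unop hx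
        obtain ⟨V, e, e₁, hxV, hV, η, a, hr⟩ := hs.normal hc hx hx₁
        obtain ⟨V', e', e₁', hxV', hV', η', a', hr'⟩ :=
          (hs'.map (W' := V) e).normal hc hxV hx₁
        refine ⟨V', hV', e'.trans e, fun i => rs e₁' (g₁ i), hxV', (hc V' hV' e₁').ideal,
          Ω.presheaf.map (homOfLE e').op η + η', fun i => rs e' (a i) + a' i, ?_⟩
        have h1 := hr.restrict e'
        simp only [rs_rs, map_mapM] at h1
        rw [map_mapM] at hr'
        show Rep D d _ ((sing D Ω).presheaf.map (homOfLE (e'.trans e)).op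
          ((show Γ(sing D Ω, W.unop) from s) + (show Γ(sing D Ω, W.unop) from s'))) _ _
        rw [map_add]
        exact h1.add hr' 
      zero_mem' := isLog_zero D d hd hD W.unop
      smul_mem' := fun c s hs x hx => by
        obtain ⟨V, hV, e, g, hxV, hI, η, a, hrep⟩ := hs x hx
        refine ⟨V, hV, e, g, hxV, hI, rs e c • η, fun i => rs e c * a i, ?_⟩
        show Rep D d g ((sing D Ω).presheaf.map (homOfLE e).op
          ((show Γ(X, W.unop) from c) • (show Γ(sing D Ω, W.unop) from s))) _ _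
        rw [Scheme.Modules.map_smul]
        exact hrep.smul _ }
  map {U V} h s hs := IsLog.map hs (leOfHom h.unop)

theorem isSheaf_logPre :
    Presheaf.IsSheaf (Opens.grothendieckTopology X) (logPre D d hd hD).toPresheafOfModules.presheaf := by
  refine (TopCat.Presheaf.isSheaf_iff_isSheafUniqueGluing _).2 fun ι U sf hsf => ?_
  obtain ⟨s, hs, huniq⟩ := (TopCat.Presheaf.isSheaf_iff_isSheafUniqueGluing (sing D Ω).presheaf).1
    (sing D Ω).isSheaf U (fun j => (sf j).1) (fun j k => congrArg Subtype.val (hsf j k))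
  have hk : IsLog d s := fun x hx => by
    obtain ⟨j, hj⟩ := Opens.mem_iSup.1 hx
    obtain ⟨V, hV, e, g, hxV, hI, η, a, hrep⟩ := (sf j).2 x hj
    refine ⟨V, hV, e.trans (le_iSup U j), g, hxV, hI, η, a, ?_⟩
    rw [← map_mapM (le_iSup U j) e]
    exact ((hs j).symm : (sf j).1 = _) ▸ hrep
  exact ⟨⟨s, hk⟩, fun j => Subtype.ext (hs j),
    fun t ht => Subtype.ext (huniq t.1 fun j => congrArg Subtype.val (ht j))⟩

/-- The sheaf of logarithmic forms. -/
noncomputable def logSheaf : X.Modules := ⟨(logPre D d hd hD).toPresheafOfModules, isSheaf_logPre D d hd hD⟩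

/-- The inclusion into singular forms. -/
noncomputable def logι : logSheaf D d hd hD ⟶ sing D Ω := ⟨(logPre D d hd hD).ι⟩

theorem logι_injective (W : X.Opens) : Function.Injective ((logι D d hd hD).app W) :=
  fun _ _ h => Subtype.ext h

theorem isLog_logι (W : X.Opens) (s : Γ(logSheaf D d hd hD, W)) : IsLog d ((logι D d hd hD).app W s) := s.2

theorem exists_logι {W : X.Opens} {s : Γ(sing D Ω, W)} (hs : IsLog d s) :
    ∃ t, (logι D d hd hD).app W t = s :=
  ⟨⟨s, hs⟩, rfl⟩

include hd hD in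
theorem isLog_jSing (W : X.Opens) (η : Γ(Ω, W)) : IsLog d ((jSing D Ω).app W η) := by
  intro x hx
  obtain ⟨V, g, hxV, hle, hV, hc⟩ := exists_chart hd hD x W hx
  refine ⟨V, hV, hle, fun i => rs le_rfl (g i), hxV, (hc V hV le_rfl).ideal,
    Ω.presheaf.map (homOfLE hle).op η, 0, ?_⟩
  rw [← app_mapM]
  exact Rep.of_form _ _

/-- The inclusion of forms without poles. -/
noncomputable def logIncl : Ω ⟶ logSheaf D d hd hD :=
  ⟨PresheafOfModules.homMk
    { app := fun W => AddCommGrpCat.ofHom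
        { toFun := fun η => (⟨(jSing D Ω).app W.unop η, isLog_jSing D d hd hD W.unop η⟩ :
            Γ(logSheaf D d hd hD, W.unop))
          map_zero' := Subtype.ext (map_zero _)
          map_add' := fun a b => Subtype.ext (map_add _ a b) }
      naturality := fun W W' i => by
        ext η
        exact Subtype.ext (congr($((jSing D Ω).mapPresheaf.naturality i) η)) }
    fun W c η => Subtype.ext ((jSing D Ω).app_smul c η)⟩

theorem logι_logIncl (W : X.Opens) (η : Γ(Ω, W)) :
    (logι D d hd hD).app W ((logIncl D d hd hD).app W η) = (jSing D Ω).app W η := rfl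

theorem logIncl_injective (W : X.Opens) : Function.Injective ((logIncl D d hd hD).app W) := by
  intro a b hab
  have h := congrArg ((logι D d hd hD).app W) hab
  rw [logι_logIncl, logι_logIncl] at h
  refine H11Tilde.eq_of_locally a b fun x hx => ?_
  obtain ⟨V, g, hxV, hle, hV, hc⟩ := exists_chart hd hD x W hx
  refine ⟨V, hle, hxV, (hc V hV le_rfl).injΩ ?_⟩
  rw [app_mapM, app_mapM, h]

/-- `t` is the residue of `s` along `D i`. -/
def IsRes (i : Fin r) {W : X.Opens} (s : Γ(sing D Ω, W)) (t : Γ(ClSub.quotMod (D i), W)) : Prop :=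
  ∀ (V : X.Opens) (hV : IsAffineOpen V) (e : V ≤ W) (g : Fin r → Γ(X, V)),
    (∀ k, (D k).ideal ⟨V, hV⟩ = Ideal.span {g k}) → ∀ η a,
      Rep D d g ((sing D Ω).presheaf.map (homOfLE e).op s) η a →
        (ClSub.quotMod (D i)).presheaf.map (homOfLE e).op t = cls D i V (a i)

include hd hD in
theorem cls_compat (i : Fin r) {W : X.Opens} {s : Γ(sing D Ω, W)}
    {V V' : X.Opens} (hV : IsAffineOpen V) (hV' : IsAffineOpen V') (e : V ≤ W) (e' : V' ≤ W)
    {g : Fin r → Γ(X, V)} {g' : Fin r → Γ(X, V')}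
    (hI : ∀ k, (D k).ideal ⟨V, hV⟩ = Ideal.span {g k}) (hI' : ∀ k, (D k).ideal ⟨V', hV'⟩ = Ideal.span {g' k})
    {η a η' a'} (h : Rep D d g ((sing D Ω).presheaf.map (homOfLE e).op s) η a)
    (h' : Rep D d g' ((sing D Ω).presheaf.map (homOfLE e').op s) η' a')
    {y : X} (hy : y ∈ V) (hy' : y ∈ V') :
    ∃ (T : X.Opens) (t : T ≤ V) (t' : T ≤ V'), y ∈ T ∧
      (ClSub.quotMod (D i)).presheaf.map (homOfLE t).op (cls D i V (a i)) =
        (ClSub.quotMod (D i)).presheaf.map (homOfLE t').op (cls D i V' (a' i)) := by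
  obtain ⟨T, g₁, hyT, hle, hT, hc⟩ := exists_chart hd hD y (V ⊓ V') ⟨hy, hy'⟩
  have t : T ≤ V := hle.trans inf_le_left
  have t' : T ≤ V' := hle.trans inf_le_right
  refine ⟨T, t, t', hyT, ?_⟩
  rw [← cls_res, ← cls_res]
  have h1 := h.restrict t
  have h2 := h'.restrict t'
  rw [map_mapM] at h1 h2
  exact cls_unique (hc T hT le_rfl) (fun k => ideal_res hV hT t (hI k)) (fun k => ideal_res hV' hT t' (hI' k))
    h1 h2 i

include hd hD in
theorem isRes_unique (i : Fin r) {W : X.Opens} {s : Γ(sing D Ω, W)} (hs : IsLog d s)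
    {t t' : Γ(ClSub.quotMod (D i), W)} (h : IsRes D d i s t) (h' : IsRes D d i s t') : t = t' := by
  refine H11Tilde.eq_of_locally t t' fun x hx => ?_
  obtain ⟨V, hV, e, g, hxV, hI, η, a, hrep⟩ := hs x hx
  exact ⟨V, e, hxV, (h V hV e g hI η a hrep).trans (h' V hV e g hI η a hrep).symm⟩

include hd hD in
theorem exists_isRes (i : Fin r) {W : X.Opens} {s : Γ(sing D Ω, W)} (hs : IsLog d s) :
    ∃ t, IsRes D d i s t := by
  choose V hV e g hxV hI η a hrep using hs
  let M : TopCat.Sheaf Ab.{u} X := ⟨(ClSub.quotMod (D i)).presheaf, (ClSub.quotMod (D i)).isSheaf⟩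
  let U : W → X.Opens := fun x => V x.1 x.2
  obtain ⟨t, ht, -⟩ := M.existsUnique_gluing' U W (fun x => homOfLE (e x.1 x.2))
    (fun x hx => Opens.mem_iSup.2 ⟨⟨x, hx⟩, hxV x hx⟩) (fun x => cls D i (U x) (a x.1 x.2 i)) (fun x z => by
      refine H11Tilde.eq_of_locally (F := ClSub.quotMod (D i)) _ _ fun y hy => ?_
      obtain ⟨T, t, t', hyT, heq⟩ := cls_compat D d hd hD i (hV x.1 x.2) (hV z.1 z.2) (e x.1 x.2) (e z.1 z.2)
        (hI x.1 x.2) (hI z.1 z.2) (hrep x.1 x.2) (hrep z.1 z.2) hy.1 hy.2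
      refine ⟨T, le_inf t t', hyT, ?_⟩
      rw [show (Opens.infLELeft (U x) (U z)) = homOfLE inf_le_left from Subsingleton.elim _ _,
        show (Opens.infLERight (U x) (U z)) = homOfLE inf_le_right from Subsingleton.elim _ _]
      show (ClSub.quotMod (D i)).presheaf.map _ ((ClSub.quotMod (D i)).presheaf.map _ _) =
        (ClSub.quotMod (D i)).presheaf.map _ ((ClSub.quotMod (D i)).presheaf.map _ _)
      rw [map_mapM, map_mapM]
      exact heq)
  refine ⟨t, fun V' hV' e' g' hI' η' a' hrep' => H11Tilde.eq_of_locally _ _ fun y hy => ?_⟩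
  obtain ⟨T, t₁, t₂, hyT, heq⟩ := cls_compat D d hd hD i (hV y (e' hy)) hV' (e y (e' hy)) e'
    (hI y (e' hy)) hI' (hrep y (e' hy)) hrep' (hxV y (e' hy)) hy
  refine ⟨T, t₂, hyT, ?_⟩
  rw [← heq, map_mapM, ← ht ⟨y, e' hy⟩]
  exact (map_mapM (M := ClSub.quotMod (D i)) _ _ _).symm

/-- The residue of a logarithmic form. -/
noncomputable def resApp (i : Fin r) (W : X.Opens) (s : Γ(logSheaf D d hd hD, W)) :
    Γ(ClSub.quotMod (D i), W) :=
  (exists_isRes D d hd hD i (isLog_logι D d hd hD W s)).choose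

theorem resApp_spec (i : Fin r) (W : X.Opens) (s : Γ(logSheaf D d hd hD, W)) :
    IsRes D d i ((logι D d hd hD).app W s) (resApp D d hd hD i W s) :=
  (exists_isRes D d hd hD i (isLog_logι D d hd hD W s)).choose_spec

theorem resApp_res (i : Fin r) {W W' : X.Opens} (h : W' ≤ W) (s : Γ(logSheaf D d hd hD, W)) :
    resApp D d hd hD i W' ((logSheaf D d hd hD).presheaf.map (homOfLE h).op s) =
      (ClSub.quotMod (D i)).presheaf.map (homOfLE h).op (resApp D d hd hD i W s) := by
  refine isRes_unique D d hd hD i (isLog_logι D d hd hD W' _) (resApp_spec D d hd hD i W' _) ?_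
  intro V hV e g hI η a hrep
  rw [map_mapM]
  refine resApp_spec D d hd hD i W s V hV (e.trans h) g hI η a ?_
  rw [app_mapM, map_mapM] at hrep
  exact hrep

theorem resApp_add (i : Fin r) (W : X.Opens) (s s' : Γ(logSheaf D d hd hD, W)) :
    resApp D d hd hD i W (s + s') = resApp D d hd hD i W s + resApp D d hd hD i W s' := by
  refine H11Tilde.eq_of_locally _ _ fun x hx => ?_
  obtain ⟨W₁, g₁, hx₁, -, -, hc⟩ := exists_chart hd hD x W hx
  obtain ⟨V, e, e₁, hxV, hV, η, a, hr⟩ := (isLog_logι D d hd hD W s).normal hc hx hx₁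
  obtain ⟨V', e', e₁', hxV', hV', η', a', hr'⟩ :=
    ((isLog_logι D d hd hD W s').map (W' := V) e).normal hc hxV hx₁
  have hg := (hc V' hV' e₁').ideal
  have h1 := hr.restrict e'
  simp only [rs_rs, map_mapM] at h1
  rw [map_mapM] at hr'
  refine ⟨V', e'.trans e, hxV', ?_⟩
  rw [map_add, resApp_spec D d hd hD i W s V' hV' _ _ hg _ _ h1,
    resApp_spec D d hd hD i W s' V' hV' _ _ hg _ _ hr', ← cls_add]
  refine resApp_spec D d hd hD i W (s + s') V' hV' _ _ hg
    (Ω.presheaf.map (homOfLE e').op η + η') (fun k => rs e' (a k) + a' k) ?_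
  rw [map_add, map_add]
  exact h1.add hr'

theorem resApp_smul (i : Fin r) (W : X.Opens) (c : Γ(X, W)) (s : Γ(logSheaf D d hd hD, W)) :
    resApp D d hd hD i W (c • s) = c • resApp D d hd hD i W s := by
  refine H11Tilde.eq_of_locally _ _ fun x hx => ?_
  obtain ⟨V, hV, e, g, hxV, hI, η, a, hrep⟩ := isLog_logι D d hd hD W s x hx
  refine ⟨V, e, hxV, ?_⟩
  rw [Scheme.Modules.map_smul, resApp_spec D d hd hD i W s V hV e g hI η a hrep, ← cls_mul]
  refine resApp_spec D d hd hD i W (c • s) V hV e g hI (rs e c • η) (fun k => rs e c * a k) ?_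
  rw [Scheme.Modules.Hom.app_smul, Scheme.Modules.map_smul]
  exact hrep.smul _

/-- The residue morphism. -/
noncomputable def logRes (i : Fin r) : logSheaf D d hd hD ⟶ ClSub.quotMod (D i) :=
  ⟨PresheafOfModules.homMk
    { app := fun W => AddCommGrpCat.ofHom
        (AddMonoidHom.mk' (fun s => resApp D d hd hD i W.unop s) (resApp_add D d hd hD i W.unop))
      naturality := fun W W' h => by
        ext s
        exact resApp_res D d hd hD i (leOfHom h.unop) s }
    fun W c s => resApp_smul D d hd hD i W.unop c s⟩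

theorem logRes_spec (i : Fin r) {W : X.Opens} (s : Γ(logSheaf D d hd hD, W)) :
    IsRes D d i ((logι D d hd hD).app W s) ((logRes D d hd hD i).app W s) :=
  resApp_spec D d hd hD i W s

theorem logRes_logIncl (i : Fin r) : logIncl D d hd hD ≫ logRes D d hd hD i = 0 := by
  refine Scheme.Modules.hom_ext _ _ fun W => ?_
  ext η
  refine H11Tilde.eq_of_locally (F := ClSub.quotMod (D i)) _ _ fun x hx => ?_
  obtain ⟨V, g, hxV, hle, hV, hc⟩ := exists_chart hd hD x W hx
  refine ⟨V, hle, hxV, ?_⟩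
  rw [Scheme.Modules.Hom.zero_app]
  simp only [Scheme.Modules.Hom.comp_app, ConcreteCategory.comp_apply]
  refine (logRes_spec D d hd hD i _ V hV hle _ (hc V hV le_rfl).ideal (Ω.presheaf.map (homOfLE hle).op η) 0
    ?_).trans ?_
  · rw [logι_logIncl, ← app_mapM]
    exact Rep.of_form _ _
  · rw [Pi.zero_apply, cls_zero]
    exact (map_zero _).symm

end Groth.Agent.H27LogNCD
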