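import Groth.Prelude.Def_LogNCD2
import Groth.Agent.H27LogNCD.Log
import Groth.Agent.H11Ample.Restrict
import Groth.Agent.H11Ample.Basic
import Mathlib

/-!
# Residues of logarithmic connections
-/

set_option autoImplicit false
set_option linter.style.haveILetI false
set_option backward.isDefEq.respectTransparency false

universe u

open CategoryTheory CategoryTheory.Limits AlgebraicGeometry TopologicalSpace Opposite
open scoped TensorProduct

namespace Groth.Agent.H27LogNCD

variable {X S : Scheme.{u}} {r : ℕ} {D : Fin r → X.IdealSheafData}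

/-- Sections of a tensor product come locally from the sectionwise tensor product. -/
theorem exists_locally_pre (M N : X.Modules) {U : X.Opens} (z : Γ(CohB1.tensorMod M N, U)) :
    ∀ x ∈ U, ∃ (V : X.Opens) (e : V ≤ U), x ∈ V ∧ ∃ t : (CohB1.tensorPre M N).obj (op V),
      ((SecTwist.toTensor M N).app (op V)).hom t = (CohB1.tensorMod M N).presheaf.map (homOfLE e).op z := by
  let g : (CohB1.tensorPre M N : X.PresheafOfModules).presheaf ⟶ (CohB1.tensorMod M N).presheaf :=
    (PresheafOfModules.toPresheaf _).map (SecTwist.toTensor M N)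
  haveI : Presheaf.IsLocallySurjective (Opens.grothendieckTopology X) g := by
    change Presheaf.IsLocallySurjective (Opens.grothendieckTopology X)
      ((PresheafOfModules.toPresheaf _).map ((PresheafOfModules.sheafificationAdjunction
        (R := X.ringCatSheaf) (𝟙 X.ringCatSheaf.obj)).unit.app _))
    rw [PresheafOfModules.toPresheaf_map_sheafificationAdjunction_unit_app]
    exact ((Opens.grothendieckTopology X).W_toSheafify _).isLocallySurjective
  intro x hx
  obtain ⟨V, i, ⟨t, ht⟩, hxV⟩ := Presheaf.imageSieve_mem (Opens.grothendieckTopology X) g z x hx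
  exact ⟨V, i.le, hxV, t, ht⟩

/-- `E ⊗ O/I` is killed by `I`. -/
theorem smul_eq_zero_of_mem (E : X.Modules) (i : Fin r) {V : X.Opens} (hV : IsAffineOpen V) {a : Γ(X, V)}
    (ha : a ∈ (D i).ideal ⟨V, hV⟩) (z : Γ(CohB1.tensorMod E (ClSub.quotMod (D i)), V)) : a • z = 0 := by
  refine H11Tilde.eq_of_locally _ _ fun x hx => ?_
  obtain ⟨V', e, hxV', t, ht⟩ := exists_locally_pre E (ClSub.quotMod (D i)) z x hx
  refine ⟨V', e, hxV', ?_⟩
  rw [Scheme.Modules.map_smul, map_zero, ← ht]
  clear ht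
  induction t using TensorProduct.induction_on with
  | zero => simp
  | tmul m t =>
    change rs e a • H11Ample.tm (show Γ(E, V') from m) (show Γ(ClSub.quotMod (D i), V') from t) = 0
    have h0 : rs e a • (show Γ(ClSub.quotMod (D i), V') from t) = 0 := by
      show (D i).subschemeι.app V' (rs e a) * (show Γ((D i).subscheme, (D i).subschemeι ⁻¹ᵁ V') from t) = 0
      have h1 := cls_res (D := D) i e a
      rw [cls_eq_zero hV ha, map_zero] at h1
      rw [show (D i).subschemeι.app V' (rs e a) = (0 : Γ((D i).subscheme, (D i).subschemeι ⁻¹ᵁ V')) from h1,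
        zero_mul]
    rw [← H11Ample.tm_smul_right, h0]
    exact ((SecTwist.toTensor E (ClSub.quotMod (D i))).app (op V')).hom.map_zero ▸
      congrArg _ (TensorProduct.tmul_zero _ _)
  | add t t' ht ht' => rw [map_add, smul_add, ht, ht', add_zero]

/-- The product of a section of `O/I` and a section of a module killed by `I`. -/
theorem exists_act (i : Fin r) {M : X.Modules}
    (hM : ∀ (V : X.Opens) (hV : IsAffineOpen V) (a : Γ(X, V)), a ∈ (D i).ideal ⟨V, hV⟩ → ∀ z : Γ(M, V), a • z = 0)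
    {U : X.Opens} (t : Γ(ClSub.quotMod (D i), U)) (z : Γ(M, U)) :
    ∃! w : Γ(M, U), ∀ (V : X.Opens) (_ : IsAffineOpen V) (e : V ≤ U) (a : Γ(X, V)),
      cls D i V a = (ClSub.quotMod (D i)).presheaf.map (homOfLE e).op t →
        M.presheaf.map (homOfLE e).op w = a • M.presheaf.map (homOfLE e).op z := by
  have hloc : ∀ x : U, ∃ (V : X.Opens) (_ : IsAffineOpen V) (e : V ≤ U) (a : Γ(X, V)), x.1 ∈ V ∧
      cls D i V a = (ClSub.quotMod (D i)).presheaf.map (homOfLE e).op t := fun x => by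
    obtain ⟨V, hV, hxV, e⟩ := exists_isAffineOpen_mem_and_subset x.2
    obtain ⟨a, ha⟩ := cls_surjective hV i ((ClSub.quotMod (D i)).presheaf.map (homOfLE e).op t)
    exact ⟨V, hV, e, a, hxV, ha⟩
  choose V hV e a hxV ha using hloc
  have hagree : ∀ (T : X.Opens) (_ : IsAffineOpen T) (V₁ V₂ : X.Opens) (e₁ : V₁ ≤ U) (e₂ : V₂ ≤ U) (t₁ : T ≤ V₁)
      (t₂ : T ≤ V₂) (a₁ : Γ(X, V₁)) (a₂ : Γ(X, V₂)),
      cls D i V₁ a₁ = (ClSub.quotMod (D i)).presheaf.map (homOfLE e₁).op t →
      cls D i V₂ a₂ = (ClSub.quotMod (D i)).presheaf.map (homOfLE e₂).op t →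
      M.presheaf.map (homOfLE t₁).op (a₁ • M.presheaf.map (homOfLE e₁).op z) =
        M.presheaf.map (homOfLE t₂).op (a₂ • M.presheaf.map (homOfLE e₂).op z) := by
    intro T hT V₁ V₂ e₁ e₂ t₁ t₂ a₁ a₂ h₁ h₂
    rw [Scheme.Modules.map_smul, Scheme.Modules.map_smul, map_mapM, map_mapM]
    refine sub_eq_zero.1 ((sub_smul _ _ _).symm.trans (hM T hT _ (mem_ideal_of_cls_eq_zero hT ?_) _))
    rw [cls_sub, cls_res, cls_res, h₁, h₂, map_mapM, map_mapM, sub_self]
  let Ms : TopCat.Sheaf Ab.{u} X := ⟨M.presheaf, M.isSheaf⟩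
  obtain ⟨w, hw, -⟩ := Ms.existsUnique_gluing' V U (fun x => homOfLE (e x))
    (fun x hx => Opens.mem_iSup.2 ⟨⟨x, hx⟩, hxV ⟨x, hx⟩⟩) (fun x => a x • M.presheaf.map (homOfLE (e x)).op z)
    (fun x y => H11Tilde.eq_of_locally _ _ fun p hp => by
      obtain ⟨T, hT, hpT, hle⟩ := exists_isAffineOpen_mem_and_subset (show p ∈ (V x ⊓ V y : X.Opens) from hp)
      refine ⟨T, hle, hpT, ?_⟩
      rw [show (Opens.infLELeft (V x) (V y)) = homOfLE inf_le_left from Subsingleton.elim _ _,
        show (Opens.infLERight (V x) (V y)) = homOfLE inf_le_right from Subsingleton.elim _ _]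
      show M.presheaf.map _ (M.presheaf.map _ _) = M.presheaf.map _ (M.presheaf.map _ _)
      rw [map_mapM, map_mapM]
      exact hagree T hT _ _ (e x) (e y) _ _ _ _ (ha x) (ha y))
  refine ⟨w, fun V' hV' e' a' ha' => H11Tilde.eq_of_locally _ _ fun p hp => ?_, fun w' hw' => ?_⟩
  · obtain ⟨T, hT, hpT, hle⟩ := exists_isAffineOpen_mem_and_subset
      (show p ∈ (V ⟨p, e' hp⟩ ⊓ V' : X.Opens) from ⟨hxV _, hp⟩)
    have t₁ : T ≤ V ⟨p, e' hp⟩ := hle.trans inf_le_left
    have t₂ : T ≤ V' := hle.trans inf_le_right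
    refine ⟨T, t₂, hpT, ?_⟩
    rw [← hagree T hT _ _ (e ⟨p, e' hp⟩) e' t₁ t₂ _ _ (ha _) ha', ← hw ⟨p, e' hp⟩]
    exact (map_mapM (M := M) e' t₂ w).trans (map_mapM (M := M) (e ⟨p, e' hp⟩) t₁ w).symm
  · refine H11Tilde.eq_of_locally _ _ fun p hp => ⟨V ⟨p, hp⟩, e _, hxV _, ?_⟩
    rw [hw' _ (hV _) _ _ (ha _)]
    exact (hw ⟨p, hp⟩).symm

variable {f : X ⟶ S} {Ω : X.Modules} {d : OmegaSh.Der f Ω}

theorem exists_residue (Λ : LogNCD.LogMod d D) (E : X.Modules)
    (nabla : Coh.toAb E ⟶ Coh.toAb (CohB1.tensorMod E Λ.L)) (hc : ConnSh.IsConn (LogNCD.der Λ) E nabla)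
    (i : Fin r) :
    ∃ ρ : E ⟶ CohB1.tensorMod E (ClSub.quotMod (D i)), LogNCD.IsResidue Λ E nabla i ρ := by
  let τ := KoszTw.tensorMap (𝟙 E) (Λ.res i)
  have hτ : ∀ (W : X.Opens) (t : Γ(X, W)) (e : Γ(E, W)),
      τ.app W (ConnSh.secApp nabla W (t • e)) = t • τ.app W (ConnSh.secApp nabla W e) := by
    intro W t e
    rw [hc W t e]
    erw [map_add, Scheme.Modules.Hom.app_smul, KoszTw.tensorMap_tmul]
    have h0 : (Λ.res i).app W ((LogNCD.der Λ).app W t) = 0 :=
      congr($(congrArg (fun φ : Ω ⟶ ClSub.quotMod (D i) => φ.app W) (Λ.res_ι i)) (d.app W t))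
    erw [h0]
    rw [show SecTwist.tmul E (ClSub.quotMod (D i)) W ((𝟙 E : E ⟶ E).app W e) 0 = 0 from
      ((SecTwist.toTensor E (ClSub.quotMod (D i))).app (op W)).hom.map_zero ▸
        congrArg _ (TensorProduct.tmul_zero _ _)]
    exact add_zero _
  let ρ : E ⟶ CohB1.tensorMod E (ClSub.quotMod (D i)) :=
    ⟨PresheafOfModules.homMk (nabla ≫ (SheafOfModules.toSheaf X.ringCatSheaf).map τ).hom
      fun W t e => hτ W.unop t e⟩
  exact ⟨ρ, by ext W; rfl⟩

theorem exists_factor (E : X.Modules) (i : Fin r) (ρ : E ⟶ CohB1.tensorMod E (ClSub.quotMod (D i))) :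
    ∃ R : CohB1.tensorMod E (ClSub.quotMod (D i)) ⟶ CohB1.tensorMod E (ClSub.quotMod (D i)),
      (SecTwist.unitorR E).inv ≫ KoszTw.tensorMap (𝟙 E) (ClSub.toSubscheme (D i)) ≫ R = ρ := by
  let M := CohB1.tensorMod E (ClSub.quotMod (D i))
  have hM : ∀ (V : X.Opens) (hV : IsAffineOpen V) (a : Γ(X, V)),
      a ∈ (D i).ideal ⟨V, hV⟩ → ∀ z : Γ(M, V), a • z = 0 := fun V hV a ha z => smul_eq_zero_of_mem E i hV ha z
  choose act hact huniq using fun (U : X.Opens) (p : Γ(ClSub.quotMod (D i), U) × Γ(M, U)) => exists_act i hM p.1 p.2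
  let β : H11Tilde.Pairing E (ClSub.quotMod (D i)) M :=
    { toFun := fun U e t => act U (t, ρ.app U e)
      add_left := fun U e e' t => (huniq U _ _ fun V hV h a ha => by
        rw [map_add, hact U (t, ρ.app U e) V hV h a ha, hact U (t, ρ.app U e') V hV h a ha]
        simp only [map_add, smul_add]).symm
      smul_left := fun U c e t => (huniq U _ _ fun V hV h a ha => by
        rw [Scheme.Modules.map_smul, hact U (t, ρ.app U e) V hV h a ha]
        simp only [Scheme.Modules.Hom.app_smul, Scheme.Modules.map_smul]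
        exact smul_comm _ _ _).symm
      add_right := fun U e t t' => (huniq U _ _ fun V hV h a ha => by
        obtain ⟨b, hb⟩ := cls_surjective hV i ((ClSub.quotMod (D i)).presheaf.map (homOfLE h).op t)
        have hb' : cls D i V (a - b) = (ClSub.quotMod (D i)).presheaf.map (homOfLE h).op t' := by
          rw [cls_sub, ha, hb, map_add, add_sub_cancel_left]
        rw [map_add, hact U (t, ρ.app U e) V hV h b hb, hact U (t', ρ.app U e) V hV h (a - b) hb', ← add_smul,
          add_sub_cancel]).symm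
      smul_right := fun U c e t => (huniq U _ _ fun V hV h a ha => by
        obtain ⟨b, hb⟩ := cls_surjective hV i ((ClSub.quotMod (D i)).presheaf.map (homOfLE h).op t)
        rw [Scheme.Modules.map_smul, hact U (t, ρ.app U e) V hV h b hb, smul_smul]
        refine (sub_eq_zero.1 ((sub_smul _ _ _).symm.trans (hM V hV _ (mem_ideal_of_cls_eq_zero hV ?_) _))).symm
        rw [cls_sub, cls_mul, ha, hb, Scheme.Modules.map_smul, sub_self]).symm
      res := fun U V h e t => huniq V _ _ fun V' hV' h' a ha => by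
        rw [map_mapM, app_mapM, map_mapM]
        refine hact U _ V' hV' (h'.trans h) a ?_
        rw [ha, map_mapM] }
  refine ⟨H11Tilde.tensorDesc β, Scheme.Modules.hom_ext _ _ fun W => ?_⟩
  ext e
  have hinv : (SecTwist.unitorR E).inv.app W e =
      H11Ample.tm e (OmegaSh.strSect X W (1 : Γ(X, W))) := by
    apply (ConcreteCategory.bijective_of_isIso ((SecTwist.unitorR E).hom.app W)).1
    refine Eq.trans ?_ (SecTwist.unitorR_tmul E W e 1).symm
    exact (congr($(congrArg (fun φ : E ⟶ E => φ.app W) (SecTwist.unitorR E).inv_hom_id) e)).trans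
      (one_smul Γ(X, W) e).symm
  simp only [Scheme.Modules.Hom.comp_app, ConcreteCategory.comp_apply]
  rw [hinv]
  erw [KoszTw.tensorMap_tmul]
  erw [H11Ample.tensorDesc_tm]
  refine (huniq W _ _ fun V hV h a ha => ?_).symm
  have h1 : cls D i V (a - 1) = 0 := by
    rw [cls_sub, ha]
    refine sub_eq_zero.2 ?_
    rw [← map_one (X.presheaf.map (homOfLE h).op).hom]
    exact (cls_res i h 1).symm
  have h2 := hM V hV _ (mem_ideal_of_cls_eq_zero hV h1) (M.presheaf.map (homOfLE h).op (ρ.app W e))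
  rw [sub_smul, one_smul, sub_eq_zero] at h2
  exact h2.symm

end Groth.Agent.H27LogNCD
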