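import Groth.Agent.H27LogNCD.Frame
import Groth.Agent.H10Coh.FinType2
import Mathlib

/-!
# Consequences of the defining rule of `Ω¹(log D)`
-/

set_option autoImplicit false
set_option linter.style.haveILetI false
set_option backward.isDefEq.respectTransparency false

universe u

open CategoryTheory CategoryTheory.Limits AlgebraicGeometry TopologicalSpace Opposite

namespace Groth.Agent.H27LogNCD

variable {X S : Scheme.{u}} {r : ℕ} {D : Fin r → X.IdealSheafData} {f : X ⟶ S} {Ω : X.Modules}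
  {d : OmegaSh.Der f Ω}

theorem ι_injective (Λ : LogNCD.LogMod d D) (W : X.Opens) : Function.Injective (Λ.ι.app W) :=
  haveI := Λ.mono
  H10Coh.injective_app_of_mono' Λ.ι W

/-- Sections killed by the product of the equations vanish. -/
theorem logMod_torsionFree (Λ : LogNCD.LogMod d D) {V : X.Opens} (hV : IsAffineOpen V) {g : Fin r → Γ(X, V)}
    (hI : ∀ i, (D i).ideal ⟨V, hV⟩ = Ideal.span {g i}) {s : Γ(Λ.L, V)} (hs : (∏ i, g i) • s = 0) : s = 0 :=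
  (Λ.rule ⟨V, hV⟩ g hI).1 s hs

theorem logMod_smul_cancel (Λ : LogNCD.LogMod d D) {V : X.Opens} (hV : IsAffineOpen V) {g : Fin r → Γ(X, V)}
    (hI : ∀ i, (D i).ideal ⟨V, hV⟩ = Ideal.span {g i}) (i : Fin r) {s t : Γ(Λ.L, V)}
    (h : g i • s = g i • t) : s = t := by
  refine sub_eq_zero.1 (logMod_torsionFree Λ hV hI ?_)
  rw [← mul_others g i, mul_comm, mul_smul, smul_sub, h, sub_self, smul_zero]

/-- On an affine open with principal components the rule gives a frame. -/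
theorem logMod_frame (Λ : LogNCD.LogMod d D) {V : X.Opens} (hV : IsAffineOpen V) {g : Fin r → Γ(X, V)}
    (hI : ∀ i, (D i).ideal ⟨V, hV⟩ = Ideal.span {g i}) : ∃ dl, IsFrame d Λ.ι Λ.res V g dl := by
  obtain ⟨-, dl, h1, h2, h3, h4⟩ := Λ.rule ⟨V, hV⟩ g hI
  refine ⟨dl, hV, hI, h1, fun s => ?_, h3, h4⟩
  let L : Γ(Ω, V) →ₗ[Γ(X, V)] Γ(Λ.L, V) :=
    { toFun := fun η => Λ.ι.app V η, map_add' := map_add _, map_smul' := fun c η => Λ.ι.app_smul c η }
  have hs : s ∈ LinearMap.range L ⊔ Submodule.span Γ(X, V) (Set.range dl) := by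
    rw [← Submodule.span_eq (LinearMap.range L), ← Submodule.span_union]
    exact (show Submodule.span Γ(X, V) (Set.range L ∪ Set.range dl) = ⊤ from h2).ge Submodule.mem_top
  obtain ⟨y, ⟨η, rfl⟩, z, hz, rfl⟩ := Submodule.mem_sup.1 hs
  obtain ⟨a, rfl⟩ := (Submodule.mem_span_range_iff_exists_fun _).1 hz
  exact ⟨η, a, rfl⟩

variable (hd : OmegaSh.IsUniversal d) (hD : LogNCD.IsNCD D f)

include hd hD in
theorem exists_frame_near (Λ : LogNCD.LogMod d D) (x : X) (W : X.Opens) (hx : x ∈ W) :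
    ∃ (V : X.Opens) (g : Fin r → Γ(X, V)) (dl : Fin r → Γ(Λ.L, V)),
      x ∈ V ∧ V ≤ W ∧ IsFrame d Λ.ι Λ.res V g dl := by
  obtain ⟨V, g, hxV, hle, hV, hc⟩ := exists_chart hd hD x W hx
  obtain ⟨dl, h⟩ := logMod_frame Λ hV (hc V hV le_rfl).ideal
  exact ⟨V, _, dl, hxV, hle, h⟩

include hd hD in
theorem logMod_mem_range (Λ : LogNCD.LogMod d D) {W : X.Opens} {s : Γ(Λ.L, W)}
    (hs : ∀ i, (Λ.res i).app W s = 0) : ∃ η, Λ.ι.app W η = s :=
  exists_eq_of_res_eq_zero (ι_injective Λ) Λ.res_ι (exists_frame_near hd hD Λ) hs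

/-! ## The residue sequence -/

theorem piLift_app_π {I : Type} [Finite I] {L : X.Modules} {M : I → X.Modules} (φ : ∀ i, L ⟶ M i) (i : I)
    (W : X.Opens) (s : Γ(L, W)) : (Pi.π M i).app W ((Pi.lift φ).app W s) = (φ i).app W s := by
  rw [← ConcreteCategory.comp_apply, ← Scheme.Modules.Hom.comp_app, Pi.lift_π]

theorem pi_section_ext {I : Type} [Fintype I] {M : I → X.Modules} {W : X.Opens} {t t' : Γ(∏ᶜ M, W)}
    (h : ∀ i, (Pi.π M i).app W t = (Pi.π M i).app W t') : t = t' := by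
  classical
  let e := biproduct.isoProduct M
  have hid : (𝟙 (∏ᶜ M) : ∏ᶜ M ⟶ ∏ᶜ M) = ∑ i, Pi.π M i ≫ biproduct.ι M i ≫ e.hom := by
    have h1 : e.inv ≫ (∑ i, biproduct.π M i ≫ biproduct.ι M i) ≫ e.hom = 𝟙 _ := by
      rw [biproduct.total, Category.id_comp, e.inv_hom_id]
    rw [← h1, Preadditive.sum_comp, Preadditive.comp_sum]
    refine Finset.sum_congr rfl fun i _ => ?_
    rw [← Category.assoc, ← Category.assoc, ← Category.assoc]
    congr 2
    simp [e]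
  have key : ∀ u : Γ(∏ᶜ M, W), u = ∑ i, (biproduct.ι M i ≫ e.hom).app W ((Pi.π M i).app W u) := fun u =>
    (congrArg (fun φ : ∏ᶜ M ⟶ ∏ᶜ M => φ.app W u) hid).trans (H10Coh.app_sum_apply _ W u)
  rw [key t, key t']
  simp only [h]

include hd hD in
theorem shortExact_residue (Λ : LogNCD.LogMod d D) (h : Λ.ι ≫ Pi.lift Λ.res = 0) :
    (ShortComplex.mk Λ.ι (Pi.lift Λ.res) h).ShortExact := by
  haveI := Λ.mono
  haveI : Epi (Pi.lift Λ.res) := H11Tilde.epi_of_locally_surjective _ fun W t x hx => by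
    obtain ⟨V, g, dl, hxV, hle, hf⟩ := exists_frame_near hd hD Λ x W hx
    choose a ha using fun i => cls_surjective hf.affine i
      ((Pi.π (fun j => ClSub.quotMod (D j)) i).app V
        ((∏ᶜ fun j => ClSub.quotMod (D j)).presheaf.map (homOfLE hle).op t))
    refine ⟨V, hle, hxV, Λ.ι.app V 0 + ∑ i, a i • dl i, pi_section_ext fun i => ?_⟩
    rw [piLift_app_π, hf.res_sum Λ.res_ι, ha]
  exact ⟨H11Tilde.exact_of_locally _ fun W t ht x hx => by
    obtain ⟨η, hη⟩ := logMod_mem_range hd hD Λ (s := t) fun i => by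
      rw [← piLift_app_π Λ.res i W t]
      exact (congrArg ((Pi.π (fun j => ClSub.quotMod (D j)) i).app W) ht).trans (map_zero _)
    exact ⟨W, le_rfl, hx, η, hη.trans (congr($((Λ.L.presheaf.map_id (op W)).symm) t))⟩⟩

/-! ## Removing a component -/

variable {D' : Fin (r + 1) → X.IdealSheafData} {i₀ : Fin (r + 1)}

theorem prod_eq_mul_succAbove {V : X.Opens} (g : Fin (r + 1) → Γ(X, V)) :
    ∏ i, g i = g i₀ * ∏ k, g (i₀.succAbove k) := Fin.prod_univ_succAbove g i₀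

theorem torsionFree_sub (Λ : LogNCD.LogMod d D') {V : X.Opens} (hV : IsAffineOpen V)
    {g : Fin (r + 1) → Γ(X, V)} (hI : ∀ i, (D' i).ideal ⟨V, hV⟩ = Ideal.span {g i}) {s : Γ(Λ.L, V)}
    (hs : (∏ k, g (i₀.succAbove k)) • s = 0) : s = 0 :=
  logMod_torsionFree Λ hV hI (by rw [prod_eq_mul_succAbove (i₀ := i₀), mul_smul, hs, smul_zero])

/-- `s` is `t` seen with poles along the larger divisor. -/
def IsIncl (Λ : LogNCD.LogMod d D') (Λ' : LogNCD.LogMod d (D' ∘ i₀.succAbove)) {V : X.Opens}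
    (t : Γ(Λ'.L, V)) (s : Γ(Λ.L, V)) : Prop :=
  ∃ (hV : IsAffineOpen V) (g : Fin (r + 1) → Γ(X, V)) (_ : ∀ i, (D' i).ideal ⟨V, hV⟩ = Ideal.span {g i})
    (ω : Γ(Ω, V)), (∏ k, g (i₀.succAbove k)) • t = Λ'.ι.app V ω ∧ (∏ k, g (i₀.succAbove k)) • s = Λ.ι.app V ω

theorem IsIncl.unique {Λ : LogNCD.LogMod d D'} {Λ' : LogNCD.LogMod d (D' ∘ i₀.succAbove)} {V : X.Opens}
    {t : Γ(Λ'.L, V)} {s s' : Γ(Λ.L, V)} (h : IsIncl Λ Λ' t s) (h' : IsIncl Λ Λ' t s') : s = s' := by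
  obtain ⟨hV, g, hI, ω, h1, h2⟩ := h
  obtain ⟨_, g', hI', ω', h1', h2'⟩ := h'
  let G := ∏ k, g (i₀.succAbove k)
  let G' := ∏ k, g' (i₀.succAbove k)
  have hω : G' • ω = G • ω' := ι_injective Λ' V (by
    rw [Scheme.Modules.Hom.app_smul, Scheme.Modules.Hom.app_smul, ← h1, ← h1', smul_comm])
  refine sub_eq_zero.1 (torsionFree_sub (i₀ := i₀) Λ hV hI (torsionFree_sub (i₀ := i₀) Λ hV hI' ?_))
  show G' • G • (s - s') = 0
  rw [smul_sub, smul_sub, show G • s = Λ.ι.app V ω from h2, smul_comm G' G s',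
    show G' • s' = Λ.ι.app V ω' from h2', ← Scheme.Modules.Hom.app_smul, ← Scheme.Modules.Hom.app_smul, hω,
    sub_self]

theorem exists_isIncl (Λ : LogNCD.LogMod d D') (Λ' : LogNCD.LogMod d (D' ∘ i₀.succAbove)) {V : X.Opens}
    (hV : IsAffineOpen V) {g : Fin (r + 1) → Γ(X, V)} (hI : ∀ i, (D' i).ideal ⟨V, hV⟩ = Ideal.span {g i})
    (t : Γ(Λ'.L, V)) : ∃ s, IsIncl Λ Λ' t s := by
  obtain ⟨dl, hf⟩ := logMod_frame Λ hV hI
  obtain ⟨dl', hf'⟩ := logMod_frame Λ' hV (g := fun k => g (i₀.succAbove k)) fun k => hI (i₀.succAbove k)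
  obtain ⟨η, a, rfl⟩ := hf'.gen t
  refine ⟨Λ.ι.app V η + ∑ k, a k • dl (i₀.succAbove k), hV, g, hI,
    (∏ k, g (i₀.succAbove k)) • η +
      ∑ k, (a k * others (fun l => g (i₀.succAbove l)) k) • d.app V (g (i₀.succAbove k)), ?_, ?_⟩
  · rw [smul_add, map_add, map_sum, Scheme.Modules.Hom.app_smul, Finset.smul_sum]
    congr 1
    refine Finset.sum_congr rfl fun k _ => ?_
    rw [Scheme.Modules.Hom.app_smul, ← hf'.smul_dl k, smul_smul, smul_smul,
      ← mul_others (fun l => g (i₀.succAbove l)) k]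
    congr 1
    ring
  · rw [smul_add, map_add, map_sum, Scheme.Modules.Hom.app_smul, Finset.smul_sum]
    congr 1
    refine Finset.sum_congr rfl fun k _ => ?_
    rw [Scheme.Modules.Hom.app_smul, ← hf.smul_dl (i₀.succAbove k), smul_smul, smul_smul,
      ← mul_others (fun l => g (i₀.succAbove l)) k]
    congr 1
    ring

theorem IsIncl.add' (Λ : LogNCD.LogMod d D') (Λ' : LogNCD.LogMod d (D' ∘ i₀.succAbove)) {V : X.Opens}
    {t t' : Γ(Λ'.L, V)} {s s' : Γ(Λ.L, V)} (h : IsIncl Λ Λ' t s) (h' : IsIncl Λ Λ' t' s')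
    {u : Γ(Λ.L, V)} (hu : IsIncl Λ Λ' (t + t') u) : u = s + s' := by
  obtain ⟨hV, g, hI, ω, h1, h2⟩ := hu
  obtain ⟨dl', hf'⟩ := logMod_frame Λ' hV (g := fun k => g (i₀.succAbove k)) fun k => hI (i₀.succAbove k)
  -- both sides are images of `G•` of the same form
  obtain ⟨u₁, hu₁⟩ := exists_isIncl Λ Λ' hV hI t
  obtain ⟨u₂, hu₂⟩ := exists_isIncl Λ Λ' hV hI t'
  obtain rfl := h.unique hu₁
  obtain rfl := h'.unique hu₂
  obtain ⟨_, g₁, hI₁, ω₁, p1, p2⟩ := h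
  obtain ⟨_, g₂, hI₂, ω₂, q1, q2⟩ := h'
  let G := ∏ k, g (i₀.succAbove k)
  let G₁ := ∏ k, g₁ (i₀.succAbove k)
  let G₂ := ∏ k, g₂ (i₀.succAbove k)
  have hω : (G₁ * G₂) • ω = (G * G₂) • ω₁ + (G * G₁) • ω₂ := ι_injective Λ' V (by
    rw [map_add, Scheme.Modules.Hom.app_smul, Scheme.Modules.Hom.app_smul, Scheme.Modules.Hom.app_smul,
      ← h1, ← p1, ← q1, smul_add, smul_add, smul_smul, smul_smul, smul_smul, smul_smul]
    congr 2 <;> ring)
  refine sub_eq_zero.1 (torsionFree_sub (i₀ := i₀) Λ hV hI (torsionFree_sub (i₀ := i₀) Λ hV hI₁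
    (torsionFree_sub (i₀ := i₀) Λ hV hI₂ ?_)))
  show G₂ • G₁ • G • (u - (s + s')) = 0
  have e := congrArg (Λ.ι.app V) hω
  rw [map_add, Scheme.Modules.Hom.app_smul, Scheme.Modules.Hom.app_smul, Scheme.Modules.Hom.app_smul,
    ← h2, ← p2, ← q2, smul_smul, smul_smul, smul_smul] at e
  simp only [smul_sub, smul_add, smul_smul]
  rw [show G₂ * (G₁ * G) = G₁ * G₂ * G by ring, e, sub_eq_zero]
  congr 2 <;> ring

theorem IsIncl.smul' {Λ : LogNCD.LogMod d D'} {Λ' : LogNCD.LogMod d (D' ∘ i₀.succAbove)} {V : X.Opens}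
    {t : Γ(Λ'.L, V)} {s : Γ(Λ.L, V)} (h : IsIncl Λ Λ' t s) (c : Γ(X, V)) : IsIncl Λ Λ' (c • t) (c • s) := by
  obtain ⟨hV, g, hI, ω, h1, h2⟩ := h
  exact ⟨hV, g, hI, c • ω, by rw [smul_comm, h1, Scheme.Modules.Hom.app_smul],
    by rw [smul_comm, h2, Scheme.Modules.Hom.app_smul]⟩

theorem IsIncl.restrict {Λ : LogNCD.LogMod d D'} {Λ' : LogNCD.LogMod d (D' ∘ i₀.succAbove)} {V V' : X.Opens}
    {t : Γ(Λ'.L, V)} {s : Γ(Λ.L, V)} (h : IsIncl Λ Λ' t s) (e : V' ≤ V) (hV' : IsAffineOpen V') :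
    IsIncl Λ Λ' (Λ'.L.presheaf.map (homOfLE e).op t) (Λ.L.presheaf.map (homOfLE e).op s) := by
  obtain ⟨hV, g, hI, ω, h1, h2⟩ := h
  refine ⟨hV', fun i => rs e (g i), fun i => ideal_res hV hV' e (hI i), Ω.presheaf.map (homOfLE e).op ω, ?_, ?_⟩
  · rw [app_mapM, ← h1, Scheme.Modules.map_smul, map_prod]
  · rw [app_mapM, ← h2, Scheme.Modules.map_smul, map_prod]

include hd hD in
theorem exists_frame_ideal (x : X) (W : X.Opens) (hx : x ∈ W) :
    ∃ (V : X.Opens) (hV : IsAffineOpen V) (g : Fin r → Γ(X, V)), x ∈ V ∧ V ≤ W ∧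
      ∀ i, (D i).ideal ⟨V, hV⟩ = Ideal.span {g i} := by
  obtain ⟨V, g, hxV, hle, hV, hc⟩ := exists_chart hd hD x W hx
  exact ⟨V, hV, _, hxV, hle, (hc V hV le_rfl).ideal⟩

end Groth.Agent.H27LogNCD
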