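import Groth.Agent.H27LogNCD.Coords
import Groth.Agent.H11Tilde.ModLoc
import Mathlib

/-!
# Charts of a normal crossing divisor, and sections with logarithmic representations
-/

set_option autoImplicit false
set_option linter.style.haveILetI false
set_option backward.isDefEq.respectTransparency false

universe u

open CategoryTheory CategoryTheory.Limits AlgebraicGeometry TopologicalSpace Opposite

namespace Groth.Agent.H27LogNCD

variable {X S : Scheme.{u}} {r : ℕ} (D : Fin r → X.IdealSheafData)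

/-- The complement of the divisor. -/
def U0 : X.Opens :=
  ⟨(⋃ i, ((D i).support : Set X))ᶜ, (isClosed_iUnion_of_finite fun i => (D i).support.isClosed).isOpen_compl⟩

variable (Ω : X.Modules)

/-- Forms with arbitrary singularities along the divisor. -/
noncomputable def sing : X.Modules := (Scheme.Modules.pushforward (U0 D).ι).obj (Ω.restrict (U0 D).ι)

/-- The inclusion of forms. -/
noncomputable def jSing : Ω ⟶ sing D Ω := (Scheme.Modules.restrictAdjunction (U0 D).ι).unit.app Ω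

theorem jSing_app (V : X.Opens) (η : Γ(Ω, V)) :
    (jSing D Ω).app V η = Ω.presheaf.map (homOfLE ((U0 D).ι.image_preimage_le V)).op η := rfl

variable {D Ω}

theorem mem_U0 {x : X} : x ∈ U0 D ↔ ∀ i, x ∉ (D i).support := by
  simp [U0, ← SetLike.mem_coe]

theorem mem_support_iff_of_span {V : X.Opens} (hV : IsAffineOpen V) {I : X.IdealSheafData} {g : Γ(X, V)}
    (h : I.ideal ⟨V, hV⟩ = Ideal.span {g}) {x : X} (hx : x ∈ V) : x ∈ I.support ↔ x ∉ X.basicOpen g := by
  rw [I.mem_support_iff_of_mem (U := ⟨V, hV⟩) hx, h, Scheme.zeroLocus_span]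
  simp [Scheme.mem_zeroLocus_iff]

theorem inf_U0_eq {V : X.Opens} (hV : IsAffineOpen V) {g : Fin r → Γ(X, V)}
    (h : ∀ i, (D i).ideal ⟨V, hV⟩ = Ideal.span {g i}) :
    V ⊓ U0 D = X.basicOpen (∏ i, g i) := by
  ext x
  constructor
  · rintro ⟨hx, hx0⟩
    show x ∈ X.basicOpen (∏ i, g i)
    rw [Scheme.mem_basicOpen _ _ _ hx, map_prod, IsUnit.prod_iff]
    intro i _
    rw [← Scheme.mem_basicOpen _ _ _ hx]
    by_contra hn
    exact mem_U0.1 hx0 i ((mem_support_iff_of_span hV (h i) hx).2 hn)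
  · intro hx
    have hxV : x ∈ V := X.basicOpen_le _ hx
    refine ⟨hxV, mem_U0.2 fun i hi => (mem_support_iff_of_span hV (h i) hxV).1 hi ?_⟩
    have hx' : IsUnit (X.presheaf.germ V x hxV (∏ i, g i)) := (Scheme.mem_basicOpen _ _ _ hxV).1 hx
    rw [map_prod, IsUnit.prod_iff] at hx'
    exact (Scheme.mem_basicOpen _ _ _ hxV).2 (hx' i (Finset.mem_univ i))

theorem isUnit_app {V : X.Opens} (hV : IsAffineOpen V) {I : X.IdealSheafData} {g : Γ(X, V)}
    (h : I.ideal ⟨V, hV⟩ = Ideal.span {g}) (hI : ∀ x ∈ U0 D, x ∉ I.support) :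
    IsUnit ((U0 D).ι.app V g) := by
  refine (U0 D).toScheme.toRingedSpace.isUnit_of_isUnit_germ _ _ fun y hy => ?_
  rw [← RingedSpace.mem_basicOpen]
  show y ∈ (U0 D).toScheme.basicOpen ((U0 D).ι.app V g)
  rw [← Scheme.preimage_basicOpen]
  show (U0 D).ι y ∈ X.basicOpen g
  by_contra hn
  exact hI _ y.2 ((mem_support_iff_of_span hV h hy).2 hn)

theorem smul_sing {V : X.Opens} (a : Γ(X, V)) (s : Γ(sing D Ω, V)) :
    a • s = (show Γ(Ω.restrict (U0 D).ι, (U0 D).ι ⁻¹ᵁ V) from
      ((U0 D).ι.app V a : Γ((U0 D).toScheme, (U0 D).ι ⁻¹ᵁ V)) • (show Γ(Ω.restrict (U0 D).ι, (U0 D).ι ⁻¹ᵁ V) from s)) :=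
  rfl

theorem eq_zero_of_smul {V : X.Opens} {a : Γ(X, V)} (ha : IsUnit ((U0 D).ι.app V a)) {s : Γ(sing D Ω, V)}
    (hs : a • s = 0) : s = 0 := by
  rw [smul_sing] at hs
  exact (IsUnit.smul_eq_zero (x := (show Γ(Ω.restrict (U0 D).ι, (U0 D).ι ⁻¹ᵁ V) from s)) ha).1 hs

theorem isUnit_app_prod {V : X.Opens} (hV : IsAffineOpen V) {g : Fin r → Γ(X, V)}
    (h : ∀ i, (D i).ideal ⟨V, hV⟩ = Ideal.span {g i}) : IsUnit ((U0 D).ι.app V (∏ i, g i)) := by
  rw [map_prod, IsUnit.prod_iff]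
  exact fun i _ => isUnit_app hV (h i) fun x hx => mem_U0.1 hx i

variable {f : X ⟶ S}

/-- The product of all equations but one. -/
def others {V : X.Opens} (g : Fin r → Γ(X, V)) (i : Fin r) : Γ(X, V) := ∏ k ∈ Finset.univ.erase i, g k

theorem mul_others {V : X.Opens} (g : Fin r → Γ(X, V)) (i : Fin r) : g i * others g i = ∏ k, g k :=
  Finset.mul_prod_erase _ _ (Finset.mem_univ i)

variable (D)

/-- `g` are good equations of the divisor on the affine open `V`. -/
structure Good (d : OmegaSh.Der f Ω) (V : X.Opens) (g : Fin r → Γ(X, V)) : Prop where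
  affine : IsAffineOpen V
  ideal : ∀ i, (D i).ideal ⟨V, affine⟩ = Ideal.span {g i}
  injO : Function.Injective ((U0 D).ι.app V)
  injΩ : Function.Injective ((jSing D Ω).app V)
  indep : ∀ (η : Γ(Ω, V)) (a : Fin r → Γ(X, V)),
    (∏ i, g i) • η + ∑ i, (a i * others g i) • d.app V (g i) = 0 → ∀ i, g i ∣ a i

/-- Restrictions of functions. -/
noncomputable abbrev rs {U V : X.Opens} (e : V ≤ U) (s : Γ(X, U)) : Γ(X, V) := X.presheaf.map (homOfLE e).op s

/-- `g` are good equations on every affine open inside `W`. -/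
def IsChart (d : OmegaSh.Der f Ω) (W : X.Opens) (g : Fin r → Γ(X, W)) : Prop :=
  ∀ (V : X.Opens), IsAffineOpen V → ∀ e : V ≤ W, Good D d V fun i => rs e (g i)

/-- `s = η + Σ aᵢ dgᵢ/gᵢ` off the divisor. -/
def Rep (d : OmegaSh.Der f Ω) {V : X.Opens} (g : Fin r → Γ(X, V)) (s : Γ(sing D Ω, V)) (η : Γ(Ω, V))
    (a : Fin r → Γ(X, V)) : Prop :=
  (∏ i, g i) • s = (jSing D Ω).app V ((∏ i, g i) • η + ∑ i, (a i * others g i) • d.app V (g i))

variable {D} {d : OmegaSh.Der f Ω}

theorem Rep.dvd_sub {V : X.Opens} {g : Fin r → Γ(X, V)} (hg : Good D d V g) {s : Γ(sing D Ω, V)}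
    {η η' : Γ(Ω, V)} {a a' : Fin r → Γ(X, V)} (h : Rep D d g s η a) (h' : Rep D d g s η' a') (i : Fin r) :
    g i ∣ a i - a' i := by
  refine hg.indep (η - η') (fun i => a i - a' i) ?_ i
  apply hg.injΩ
  rw [map_zero, ← sub_eq_zero.2 (h.symm.trans h'), ← map_sub]
  congr 1
  simp only [sub_mul, sub_smul, Finset.sum_sub_distrib, smul_sub]
  abel

theorem Rep.add {V : X.Opens} {g : Fin r → Γ(X, V)} {s s' : Γ(sing D Ω, V)}
    {η η' : Γ(Ω, V)} {a a' : Fin r → Γ(X, V)} (h : Rep D d g s η a) (h' : Rep D d g s' η' a') :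
    Rep D d g (s + s') (η + η') (fun i => a i + a' i) := by
  rw [Rep, smul_add, h, h', ← map_add]
  congr 1
  simp only [smul_add, add_mul, add_smul, Finset.sum_add_distrib]
  abel

theorem Rep.smul {V : X.Opens} {g : Fin r → Γ(X, V)} {s : Γ(sing D Ω, V)} {η : Γ(Ω, V)}
    {a : Fin r → Γ(X, V)} (h : Rep D d g s η a) (c : Γ(X, V)) :
    Rep D d g (c • s) (c • η) (fun i => c * a i) := by
  rw [Rep, smul_comm, h, ← Scheme.Modules.Hom.app_smul]
  congr 1
  rw [smul_add, smul_comm, Finset.smul_sum]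
  simp only [mul_assoc, mul_smul]

theorem Rep.of_form {V : X.Opens} (g : Fin r → Γ(X, V)) (η : Γ(Ω, V)) :
    Rep D d g ((jSing D Ω).app V η) η 0 := by
  rw [Rep]
  simp

theorem rs_others {U V : X.Opens} (e : V ≤ U) (g : Fin r → Γ(X, U)) (i : Fin r) :
    rs e (others g i) = others (fun k => rs e (g k)) i := map_prod _ _ _

theorem Rep.restrict {U V : X.Opens} {g : Fin r → Γ(X, U)} {s : Γ(sing D Ω, U)} {η : Γ(Ω, U)}
    {a : Fin r → Γ(X, U)} (h : Rep D d g s η a) (e : V ≤ U) :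
    Rep D d (fun i => rs e (g i)) ((sing D Ω).presheaf.map (homOfLE e).op s)
      (Ω.presheaf.map (homOfLE e).op η) (fun i => rs e (a i)) := by
  have h1 := congrArg ((sing D Ω).presheaf.map (homOfLE e).op) h
  rw [Scheme.Modules.map_smul, map_prod] at h1
  rw [Rep, h1]
  have h2 := congr($((jSing D Ω).mapPresheaf.naturality (homOfLE e).op)
    ((∏ i, g i) • η + ∑ i, (a i * others g i) • d.app U (g i)))
  simp only [ConcreteCategory.comp_apply, Scheme.Modules.mapPresheaf_app] at h2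
  refine h2.symm.trans (congrArg _ ?_)
  rw [map_add, map_sum, Scheme.Modules.map_smul, map_prod]
  congr 1
  refine Finset.sum_congr rfl fun i _ => ?_
  rw [Scheme.Modules.map_smul, map_mul, ← rs_others, app_res_der]

/-- Changing equations by units. -/
theorem Rep.change {V : X.Opens} {g g' : Fin r → Γ(X, V)} (u : Fin r → Γ(X, V)ˣ)
    (hu : ∀ i, g i = u i * g' i) {s : Γ(sing D Ω, V)} {η : Γ(Ω, V)} {a : Fin r → Γ(X, V)}
    (h : Rep D d g s η a) :
    Rep D d g' s (η + ∑ i, (a i * ↑(u i)⁻¹) • d.app V (u i : Γ(X, V))) a := by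
  have hU : IsUnit (∏ i, (u i : Γ(X, V))) := IsUnit.prod_iff.2 fun i _ => (u i).isUnit
  refine hU.smul_left_cancel.1 ?_
  rw [← Scheme.Modules.Hom.app_smul, smul_smul, ← Finset.prod_mul_distrib,
    show (∏ i, (u i : Γ(X, V)) * g' i) = ∏ i, g i from Finset.prod_congr rfl fun i _ => (hu i).symm]
  refine h.trans (congrArg _ ?_)
  rw [smul_add, smul_smul, ← Finset.prod_mul_distrib,
    show (∏ i, (u i : Γ(X, V)) * g' i) = ∏ i, g i from Finset.prod_congr rfl fun i _ => (hu i).symm,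
    smul_add, add_assoc, add_right_inj, Finset.smul_sum, Finset.smul_sum, ← Finset.sum_add_distrib]
  refine Finset.sum_congr rfl fun i _ => ?_
  have hd : d.app V (g i) = (u i : Γ(X, V)) • d.app V (g' i) + g' i • d.app V (u i : Γ(X, V)) := by
    rw [hu i]
    exact d.d_mul (X := op V) _ _
  have ho : (∏ k, (u k : Γ(X, V))) * others g' i = (u i : Γ(X, V)) * others g i := by
    rw [← Finset.mul_prod_erase _ _ (Finset.mem_univ i), others, others, mul_assoc, ← Finset.prod_mul_distrib]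
    exact congrArg _ (Finset.prod_congr rfl fun k _ => (hu k).symm)
  rw [hd, smul_add, smul_smul, smul_smul, smul_smul, smul_smul, add_comm]
  congr 2
  · rw [← mul_others g i, hu i]
    linear_combination (-(a i) * g' i * others g i) * (u i).inv_mul
  · linear_combination -(a i) * ho

theorem exists_units {V : X.Opens} {g g' : Fin r → Γ(X, V)} (hg' : Good D d V g')
    (h : ∀ i, (D i).ideal ⟨V, hg'.affine⟩ = Ideal.span {g i}) :
    ∃ u : Fin r → Γ(X, V)ˣ, ∀ i, g i = u i * g' i := by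
  have : ∀ i, ∃ u : Γ(X, V)ˣ, g i = u * g' i := fun i => by
    have e := (h i).symm.trans (hg'.ideal i)
    obtain ⟨a, ha⟩ := Ideal.mem_span_singleton.1 (e ▸ Ideal.mem_span_singleton_self (g i))
    obtain ⟨b, hb⟩ := Ideal.mem_span_singleton.1 (e.symm ▸ Ideal.mem_span_singleton_self (g' i))
    have h1 : g' i * (1 - a * b) = 0 := by
      rw [mul_sub, mul_one, ← mul_assoc, ← ha, ← hb, sub_self]
    have h2 : 1 - a * b = 0 := by
      refine hg'.injO ?_
      have := congrArg ((U0 D).ι.app V) h1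
      rw [map_mul, map_zero] at this
      rw [map_zero]
      exact ((isUnit_app hg'.affine (hg'.ideal i) fun x hx => mem_U0.1 hx i).mul_right_eq_zero).1 this
    exact ⟨Units.mkOfMulEqOne a b (sub_eq_zero.1 h2).symm, by rw [Units.val_mkOfMulEqOne, mul_comm, ← ha]⟩
  exact Classical.skolem.1 this

/-! ## Existence of charts -/

/-- An open missing all the components carries the trivial chart. -/
theorem isChart_one {W : X.Opens} (hW : ∀ x ∈ W, x ∈ U0 D) : IsChart D d W fun _ => 1 := by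
  intro V hV e
  have hI : ∀ i, (D i).ideal ⟨V, hV⟩ = ⊤ := fun i => by
    rw [← PrimeSpectrum.zeroLocus_empty_iff_eq_top, ← Set.image_eq_empty, hV.fromSpec_image_zeroLocus,
      Set.eq_empty_iff_forall_notMem]
    rintro x ⟨h0, hx⟩
    exact mem_U0.1 (hW x (e hx)) i (((D i).mem_support_iff_of_mem (U := ⟨V, hV⟩) hx).2 h0)
  have hle : V ≤ (U0 D).ι ''ᵁ ((U0 D).ι ⁻¹ᵁ V) := fun x hx => ⟨⟨x, hW x (e hx)⟩, hx, rfl⟩
  refine ⟨hV, fun i => by rw [hI i, rs, map_one, Ideal.span_singleton_one], ?_, ?_,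
    fun η a _ i => by simp [rs]⟩
  · intro a b hab
    have h1 := congrArg (fun z => X.presheaf.map (homOfLE hle).op (((U0 D).ι.appIso _).inv z)) hab
    simp only [← CommRingCat.comp_apply, Scheme.Hom.app_appIso_inv] at h1
    simp only [← CommRingCat.comp_apply, ← Functor.map_comp] at h1
    erw [Subsingleton.elim (_ ≫ _) (𝟙 _), X.presheaf.map_id] at h1
    exact h1
  · intro a b hab
    rw [jSing_app, jSing_app] at hab
    have h1 := congrArg (Ω.presheaf.map (homOfLE hle).op) hab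
    simp only [← ConcreteCategory.comp_apply, ← Functor.map_comp] at h1
    erw [Subsingleton.elim (_ ≫ _) (𝟙 _), Ω.presheaf.map_id] at h1
    exact h1

/-- Étale coordinates on an affine open over an affine open of the base. -/
theorem bijective_coords (hd : OmegaSh.IsUniversal d) {σ : Type u} [Fintype σ] {W : X.Opens}
    (v : σ → Γ(W, ⊤)) (het : Etale (AffineSpace.homOfVector (W.ι ≫ f) v)) {V : X.Opens} (hV : IsAffineOpen V)
    (hVW : V ≤ W) {V0 : S.Opens} (hV0 : IsAffineOpen V0) (h : V ≤ f ⁻¹ᵁ V0) :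
    Function.Bijective fun c : σ → Γ(X, V) => ∑ j, c j • d.app V (LogNCD.sectOn W hVW (v j)) :=
  bijective_of_etale d hd hV hV0 h _ (etale_eval₂ f W v het hV hVW hV0 h)

theorem isRegular_coord {σ : Type u} {W : X.Opens} (v : σ → Γ(W, ⊤))
    (het : Etale (AffineSpace.homOfVector (W.ι ≫ f) v)) {V : X.Opens} (hV : IsAffineOpen V)
    (hVW : V ≤ W) {V0 : S.Opens} (hV0 : IsAffineOpen V0) (h : V ≤ f ⁻¹ᵁ V0) (j : σ) :
    IsRegular (LogNCD.sectOn W hVW (v j)) := by
  let φ := MvPolynomial.eval₂Hom (f.appLE V0 V h).hom fun j => LogNCD.sectOn W hVW (v j)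
  have hφ := etale_eval₂ f W v het hV hVW hV0 h
  letI := φ.toAlgebra
  haveI : Algebra.Etale (MvPolynomial σ Γ(S, V0)) Γ(X, V) := hφ
  have h1 : IsSMulRegular (MvPolynomial σ Γ(S, V0)) (MvPolynomial.X j : MvPolynomial σ Γ(S, V0)) :=
    MvPolynomial.isRegular_X.left.isSMulRegular
  have h2 : IsSMulRegular Γ(X, V) (φ (MvPolynomial.X j)) := IsSMulRegular.of_flat h1
  rw [MvPolynomial.eval₂Hom_X'] at h2
  exact Commute.isRegular_iff (fun b => Commute.all _ b) |>.2 h2

theorem isRegular_app_injective {V : X.Opens} (hV : IsAffineOpen V) {g : Fin r → Γ(X, V)}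
    (hI : ∀ i, (D i).ideal ⟨V, hV⟩ = Ideal.span {g i}) (hG : IsRegular (∏ i, g i)) :
    Function.Injective ((U0 D).ι.app V) ∧
      Function.Injective (X.presheaf.map (homOfLE (X.basicOpen_le (∏ i, g i))).op) := by
  haveI : IsLocalization.Away (∏ i, g i) Γ(X, X.basicOpen (∏ i, g i)) := hV.isLocalization_basicOpen _
  have h2 : Function.Injective (X.presheaf.map (homOfLE (X.basicOpen_le (∏ i, g i))).op) :=
    IsLocalization.injective (M := Submonoid.powers (∏ i, g i)) Γ(X, X.basicOpen (∏ i, g i))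
      (Submonoid.powers_le.2 hG.mem_nonZeroDivisors)
  refine ⟨fun a b hab => h2 ?_, h2⟩
  have hle : X.basicOpen (∏ i, g i) ≤ (U0 D).ι ''ᵁ ((U0 D).ι ⁻¹ᵁ V) := by
    rw [← inf_U0_eq hV hI]
    exact fun x hx => ⟨⟨x, hx.2⟩, hx.1, rfl⟩
  have h1 := congrArg (fun z => X.presheaf.map (homOfLE hle).op (((U0 D).ι.appIso _).inv z)) hab
  simp only [← CommRingCat.comp_apply, Scheme.Hom.app_appIso_inv, ← Functor.map_comp] at h1
  exact h1

/-- A chart around a point of the divisor, with coordinates. -/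
theorem exists_coord_chart (hd : OmegaSh.IsUniversal d) (hD : LogNCD.IsNCD D f) (x : X)
    (hx : Nonempty (LogNCD.Through D x)) (W' : X.Opens) (hxW' : x ∈ W') :
    ∃ (W : X.Opens) (n : ℕ) (v : ULift.{u} (Fin n) → Γ(X, W)) (e : LogNCD.Through D x → ULift.{u} (Fin n))
      (g : Fin r → Γ(X, W)), x ∈ W ∧ W ≤ W' ∧ IsAffineOpen W ∧ Function.Injective e ∧
      (∀ i : LogNCD.Through D x, g i.1 = v (e i)) ∧ (∀ i, x ∉ (D i).support → g i = 1) ∧
      (∀ (V : X.Opens), IsAffineOpen V → ∀ h : V ≤ W,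
        Function.Bijective fun c : ULift.{u} (Fin n) → Γ(X, V) => ∑ j, c j • d.app V (rs h (v j))) ∧
      IsChart D d W g := by
  classical
  obtain ⟨W₁, hxW₁, n, v, e, he, het, hthru, hoff⟩ := hD x hx
  obtain ⟨_, ⟨V0, hV0, rfl⟩, hxV0, -⟩ :=
    S.isBasis_affineOpens.exists_subset_of_mem_open (Set.mem_univ (f x)) isOpen_univ
  obtain ⟨_, ⟨W, hW, rfl⟩, hxW, hWle⟩ := X.isBasis_affineOpens.exists_subset_of_mem_open
    (show x ∈ (f ⁻¹ᵁ V0 ⊓ W₁ ⊓ W' : X.Opens) from ⟨⟨hxV0, hxW₁⟩, hxW'⟩) (f ⁻¹ᵁ V0 ⊓ W₁ ⊓ W').2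
  have hW1 : W ≤ W₁ := fun y hy => (hWle hy).1.2
  have hWV : W ≤ f ⁻¹ᵁ V0 := fun y hy => (hWle hy).1.1
  let v' : ULift.{u} (Fin n) → Γ(X, W) := fun j => LogNCD.sectOn W₁ hW1 (v j)
  let g : Fin r → Γ(X, W) := fun i => if h : x ∈ (D i).support then v' ⟨e ⟨i, h⟩⟩ else 1
  have hv' : ∀ (V : X.Opens) (h : V ≤ W) (j), rs h (v' j) = LogNCD.sectOn W₁ (h.trans hW1) (v j) := by
    intro V h j
    simp only [rs, v', LogNCD.sectOn_apply]
    rw [← CommRingCat.comp_apply, ← Functor.map_comp]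
    rfl
  have hgt : ∀ i : LogNCD.Through D x, g i.1 = v' ⟨e i⟩ := fun i => by
    simp only [g, dif_pos i.2]
    rfl
  have hg1 : ∀ i, x ∉ (D i).support → g i = 1 := fun i hi => dif_neg hi
  have hbij : ∀ (V : X.Opens), IsAffineOpen V → ∀ h : V ≤ W,
      Function.Bijective fun c : ULift.{u} (Fin n) → Γ(X, V) => ∑ j, c j • d.app V (rs h (v' j)) := by
    intro V hV h
    simp only [hv']
    exact bijective_coords hd v het hV (h.trans hW1) hV0 (h.trans hWV)
  refine ⟨W, n, v', fun i => ⟨e i⟩, g, hxW, fun y hy => (hWle hy).2, hW,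
    fun a b hab => he (congrArg ULift.down hab), hgt, hg1, hbij, fun V hV h => ?_⟩
  let gV : Fin r → Γ(X, V) := fun i => rs h (g i)
  have hideal : ∀ i, (D i).ideal ⟨V, hV⟩ = Ideal.span {gV i} := by
    intro i
    by_cases hi : x ∈ (D i).support
    · simp only [gV, g, dif_pos hi, hv']
      exact hthru ⟨i, hi⟩ ⟨V, hV⟩ (h.trans hW1)
    · simp only [gV, g, dif_neg hi, rs, map_one, Ideal.span_singleton_one]
      exact hoff i hi ⟨V, hV⟩ (h.trans hW1)
  have hreg : ∀ i, IsRegular (gV i) := by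
    intro i
    by_cases hi : x ∈ (D i).support
    · simp only [gV, g, dif_pos hi, hv']
      exact isRegular_coord v het hV (h.trans hW1) hV0 (h.trans hWV) _
    · simp only [gV, g, dif_neg hi, rs, map_one]
      exact isRegular_one
  have hG : IsRegular (∏ i, gV i) := IsRegular.prod fun i _ => hreg i
  obtain ⟨hinjO, hres⟩ := isRegular_app_injective hV hideal hG
  refine ⟨hV, hideal, hinjO, ?_, ?_⟩
  · rw [injective_iff_map_eq_zero]
    intro η hη
    obtain ⟨c, rfl⟩ := (hbij V hV h).2 η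
    have hb := X.basicOpen_le (∏ i, gV i)
    have hle : X.basicOpen (∏ i, gV i) ≤ (U0 D).ι ''ᵁ ((U0 D).ι ⁻¹ᵁ V) := by
      rw [← inf_U0_eq hV hideal]
      exact fun y hy => ⟨⟨y, hy.2⟩, hy.1, rfl⟩
    rw [jSing_app] at hη
    have h1 := congrArg (Ω.presheaf.map (homOfLE hle).op) hη
    rw [map_zero, ← ConcreteCategory.comp_apply, ← Functor.map_comp] at h1
    have h2 : Ω.presheaf.map (homOfLE hb).op (∑ j, c j • d.app V (rs h (v' j))) = 0 := h1
    rw [map_sum] at h2
    simp only [Scheme.Modules.map_smul, ← app_res_der] at h2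
    have h3 := (hbij _ (hV.basicOpen _) (hb.trans h)).1 (a₁ := fun j => rs hb (c j)) (a₂ := 0) (by
      simp only [Pi.zero_apply, zero_smul, Finset.sum_const_zero]
      refine Eq.trans (Finset.sum_congr rfl fun j _ => ?_) h2
      simp only [rs, ← CommRingCat.comp_apply, ← Functor.map_comp]
      rfl)
    have hc : c = 0 := funext fun j => hres (by rw [Pi.zero_apply, map_zero]; exact congrFun h3 j)
    simp [hc]
  · intro η a hsum i
    by_cases hi : x ∈ (D i).support
    · obtain ⟨c, rfl⟩ := (hbij V hV h).2 η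
      let ω : ULift.{u} (Fin n) → Γ(Ω, V) := fun j => d.app V (rs h (v' j))
      let T : LogNCD.Through D x := ⟨i, hi⟩
      let c' : Fin r → ULift.{u} (Fin n) → Γ(X, V) := fun k j =>
        if hk : x ∈ (D k).support then (if j = ⟨e ⟨k, hk⟩⟩ then a k * others gV k else 0) else 0
      have hterm : ∀ k, (a k * others gV k) • d.app V (gV k) = ∑ j, c' k j • ω j := by
        intro k
        by_cases hk : x ∈ (D k).support
        · simp only [c', dif_pos hk, ite_smul, zero_smul, Finset.sum_ite_eq', Finset.mem_univ, if_true]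
          simp only [ω, gV, g, dif_pos hk]
        · simp only [c', dif_neg hk, zero_smul, Finset.sum_const_zero, gV, g, rs, map_one]
          rw [show d.app V (1 : Γ(X, V)) = 0 from d.d_one (op V), smul_zero]
      have h1 : ∑ j, ((∏ k, gV k) * c j + ∑ k, c' k j) • ω j = 0 := by
        rw [← hsum]
        simp only [add_smul, Finset.sum_add_distrib, Finset.sum_smul, mul_smul, ← Finset.smul_sum]
        rw [Finset.sum_comm]
        congr 1
        exact Finset.sum_congr rfl fun k _ => (hterm k).symm.trans (mul_smul _ _ _)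
      have h2 := congrFun ((hbij V hV h).1 (a₁ := fun j => (∏ k, gV k) * c j + ∑ k, c' k j) (a₂ := 0)
        (by simpa using h1)) ⟨e T⟩
      rw [Pi.zero_apply, Finset.sum_eq_single i (fun k _ hk => by
          simp only [c']
          split_ifs with hk' hj
          · exact absurd (congrArg Subtype.val (he (congrArg ULift.down hj))).symm hk
          · rfl
          · rfl) (fun hn => absurd (Finset.mem_univ i) hn)] at h2
      simp only [c', dif_pos hi, T, if_true, ← mul_others gV i] at h2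
      have hoth : IsRegular (others gV i) := IsRegular.prod fun k _ => hreg k
      have h4 : others gV i * (gV i * c ⟨e ⟨i, hi⟩⟩ + a i) = others gV i * 0 := by
        rw [mul_zero, ← h2]
        ring
      exact ⟨-(c ⟨e ⟨i, hi⟩⟩), by linear_combination hoth.left h4⟩
    · simp [g, dif_neg hi, rs]

/-- Every point has a chart in any given neighbourhood. -/
theorem exists_chart (hd : OmegaSh.IsUniversal d) (hD : LogNCD.IsNCD D f) (x : X) (W' : X.Opens) (hxW' : x ∈ W') :
    ∃ (W : X.Opens) (g : Fin r → Γ(X, W)), x ∈ W ∧ W ≤ W' ∧ IsAffineOpen W ∧ IsChart D d W g := by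
  by_cases hx : Nonempty (LogNCD.Through D x)
  · obtain ⟨W, n, v, e, g, h1, h2, h3, -, -, -, -, h4⟩ := exists_coord_chart hd hD x hx W' hxW'
    exact ⟨W, g, h1, h2, h3, h4⟩
  · have hx0 : x ∈ U0 D := mem_U0.2 fun i hi => hx ⟨⟨i, hi⟩⟩
    obtain ⟨_, ⟨W, hW, rfl⟩, hxW, hWle⟩ := X.isBasis_affineOpens.exists_subset_of_mem_open
      (show x ∈ (U0 D ⊓ W' : X.Opens) from ⟨hx0, hxW'⟩) (U0 D ⊓ W').2
    exact ⟨W, fun _ => 1, hxW, fun y hy => (hWle hy).2, hW, isChart_one fun y hy => (hWle hy).1⟩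

end Groth.Agent.H27LogNCD
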