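import Groth.Agent.H27LogNCD.Log
import Mathlib

/-!
# Residue-free logarithmic forms are forms
-/

set_option autoImplicit false
set_option linter.style.haveILetI false
set_option backward.isDefEq.respectTransparency false

universe u

open CategoryTheory CategoryTheory.Limits AlgebraicGeometry TopologicalSpace Opposite

namespace Groth.Agent.H27LogNCD

variable {X S : Scheme.{u}} {r : ℕ} {D : Fin r → X.IdealSheafData} {f : X ⟶ S} {Ω : X.Modules}
  {d : OmegaSh.Der f Ω}

/-- `dl` are logarithmic differentials of the equations `g` generating with the forms. -/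
structure IsFrame (d : OmegaSh.Der f Ω) {L : X.Modules} (ι : Ω ⟶ L) (res : ∀ i, L ⟶ ClSub.quotMod (D i))
    (V : X.Opens) (g : Fin r → Γ(X, V)) (dl : Fin r → Γ(L, V)) : Prop where
  affine : IsAffineOpen V
  ideal : ∀ i, (D i).ideal ⟨V, affine⟩ = Ideal.span {g i}
  smul_dl : ∀ i, g i • dl i = ι.app V (d.app V (g i))
  gen : ∀ s : Γ(L, V), ∃ (η : Γ(Ω, V)) (a : Fin r → Γ(X, V)), s = ι.app V η + ∑ i, a i • dl i
  res_dl : ∀ i, (res i).app V (dl i) = cls D i V 1
  res_dl_ne : ∀ i j, i ≠ j → (res j).app V (dl i) = 0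

variable {L : X.Modules} {ι : Ω ⟶ L} {res : ∀ i, L ⟶ ClSub.quotMod (D i)}

theorem res_app_form (hres : ∀ i, ι ≫ res i = 0) (i : Fin r) (V : X.Opens) (η : Γ(Ω, V)) :
    (res i).app V (ι.app V η) = 0 := by
  rw [← ConcreteCategory.comp_apply, ← Scheme.Modules.Hom.comp_app, hres]
  rfl

theorem IsFrame.res_sum {V : X.Opens} {g : Fin r → Γ(X, V)} {dl : Fin r → Γ(L, V)}
    (h : IsFrame d ι res V g dl) (hres : ∀ i, ι ≫ res i = 0) (η : Γ(Ω, V)) (a : Fin r → Γ(X, V)) (j : Fin r) :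
    (res j).app V (ι.app V η + ∑ i, a i • dl i) = cls D j V (a j) := by
  rw [map_add, map_sum, res_app_form hres, zero_add, Finset.sum_eq_single j, Scheme.Modules.Hom.app_smul,
    h.res_dl, ← cls_mul, mul_one]
  · intro i _ hij
    rw [Scheme.Modules.Hom.app_smul, h.res_dl_ne i j hij, smul_zero]
  · exact fun hn => absurd (Finset.mem_univ j) hn

theorem IsFrame.mem_range {V : X.Opens} {g : Fin r → Γ(X, V)} {dl : Fin r → Γ(L, V)}
    (h : IsFrame d ι res V g dl) (hres : ∀ i, ι ≫ res i = 0) {s : Γ(L, V)} (hs : ∀ i, (res i).app V s = 0) :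
    ∃ η, ι.app V η = s := by
  obtain ⟨η, a, rfl⟩ := h.gen s
  have hdvd : ∀ i, g i ∣ a i := fun i => by
    have h1 := mem_ideal_of_cls_eq_zero h.affine ((h.res_sum hres η a i).symm.trans (hs i))
    rwa [h.ideal i, Ideal.mem_span_singleton] at h1
  choose c hc using hdvd
  refine ⟨η + ∑ i, c i • d.app V (g i), ?_⟩
  rw [map_add, map_sum]
  congr 1
  refine Finset.sum_congr rfl fun i _ => ?_
  rw [Scheme.Modules.Hom.app_smul, ← h.smul_dl, smul_smul, hc i, mul_comm]

/-- Residue-free sections are forms, if frames exist arbitrarily near every point. -/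
theorem exists_eq_of_res_eq_zero (hinj : ∀ W, Function.Injective (ι.app W)) (hres : ∀ i, ι ≫ res i = 0)
    (hframe : ∀ (x : X) (W : X.Opens), x ∈ W → ∃ (V : X.Opens) (g : Fin r → Γ(X, V)) (dl : Fin r → Γ(L, V)),
      x ∈ V ∧ V ≤ W ∧ IsFrame d ι res V g dl)
    {W : X.Opens} {s : Γ(L, W)} (hs : ∀ i, (res i).app W s = 0) : ∃ η, ι.app W η = s := by
  have hloc : ∀ x : W, ∃ (V : X.Opens) (e : V ≤ W) (η : Γ(Ω, V)), x.1 ∈ V ∧
      ι.app V η = L.presheaf.map (homOfLE e).op s := by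
    intro x
    obtain ⟨V, g, dl, hxV, e, h⟩ := hframe x.1 W x.2
    obtain ⟨η, hη⟩ := h.mem_range hres (s := L.presheaf.map (homOfLE e).op s) fun i => by
      rw [app_mapM, hs i, map_zero]
    exact ⟨V, e, η, hxV, hη⟩
  choose V e η hxV hη using hloc
  let M : TopCat.Sheaf Ab.{u} X := ⟨Ω.presheaf, Ω.isSheaf⟩
  obtain ⟨t, ht, -⟩ := M.existsUnique_gluing' V W (fun x => homOfLE (e x))
    (fun x hx => Opens.mem_iSup.2 ⟨⟨x, hx⟩, hxV ⟨x, hx⟩⟩) η (fun x z => hinj _ (by
      rw [show (Opens.infLELeft (V x) (V z)) = homOfLE inf_le_left from Subsingleton.elim _ _,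
        show (Opens.infLERight (V x) (V z)) = homOfLE inf_le_right from Subsingleton.elim _ _]
      show ι.app _ (Ω.presheaf.map _ _) = ι.app _ (Ω.presheaf.map _ _)
      rw [app_mapM, app_mapM, hη, hη, map_mapM, map_mapM]))
  refine ⟨t, H11Tilde.eq_of_locally _ _ fun x hx => ⟨V ⟨x, hx⟩, e _, hxV _, ?_⟩⟩
  rw [← app_mapM, ← hη]
  exact congrArg (ι.app _) (ht ⟨x, hx⟩)

end Groth.Agent.H27LogNCD
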