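import Groth.Agent.H29Fitt.FreeLocal
import Groth.Agent.H11Tilde.ModLoc
import Mathlib

/-!
# Local bases of modules and restrictions isomorphic to free modules
-/

set_option autoImplicit false
set_option linter.style.haveILetI false
set_option backward.isDefEq.respectTransparency false

universe u

open CategoryTheory CategoryTheory.Limits AlgebraicGeometry TopologicalSpace Opposite

namespace Groth.Agent.H27LogNCD

variable {X : Scheme.{u}} (M : X.Modules) {W : X.Opens} {n : ℕ}

theorem image_le_of_opens (T : W.toScheme.Opens) : W.ι ''ᵁ T ≤ W := fun _ ⟨y, _, e⟩ => e ▸ y.2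

/-- The map from the free module given by sections over `W`. -/
noncomputable def basisHom (b : Fin n → Γ(M, W)) : FlatMod.freeMod W.toScheme n ⟶ M.restrict W.ι :=
  H29Fitt.freeHom (M.restrict W.ι) fun j =>
    (M.restrictAppIso W.ι ⊤).inv (M.presheaf.map (homOfLE (image_le_of_opens ⊤)).op (b j))

theorem basisHom_gen (b : Fin n → Γ(M, W)) (j : Fin n) (T : W.toScheme.Opens) :
    (M.restrictAppIso W.ι T).hom ((basisHom M b).app T (H29Fitt.gen W.toScheme n j T)) =
      M.presheaf.map (homOfLE (image_le_of_opens T)).op (b j) := by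
  rw [basisHom, H29Fitt.freeHom_gen]
  show (M.presheaf.map _) ((M.presheaf.map _) (b j)) = _
  rw [← ConcreteCategory.comp_apply, ← Functor.map_comp]
  rfl

theorem basisHom_sum (b : Fin n → Γ(M, W)) (T : W.toScheme.Opens) (c : Fin n → Γ(W.toScheme, T)) :
    (M.restrictAppIso W.ι T).hom ((basisHom M b).app T (∑ j, c j • H29Fitt.gen W.toScheme n j T)) =
      ∑ j, (W.ι.appIso T).inv (c j) • M.presheaf.map (homOfLE (image_le_of_opens T)).op (b j) := by
  rw [map_sum, map_sum]
  refine Finset.sum_congr rfl fun j _ => ?_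
  rw [Scheme.Modules.Hom.app_smul]
  erw [Scheme.Modules.smul_restrictAppIso_hom_apply]
  rw [basisHom_gen]

/-- Sections which form a basis on every affine open inside `W` trivialise the module on `W`. -/
theorem nonempty_iso_of_basis (b : Fin n → Γ(M, W))
    (hb : ∀ (V : X.Opens) (e : V ≤ W), IsAffineOpen V →
      Function.Bijective fun c : Fin n → Γ(X, V) => ∑ j, c j • M.presheaf.map (homOfLE e).op (b j)) :
    Nonempty (M.restrict W.ι ≅ FlatMod.freeMod W.toScheme n) := by
  have hc : ∀ (T : W.toScheme.Opens), IsAffineOpen T → Function.Bijective ((basisHom M b).app T) := by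
    intro T hT
    have hbT := hb _ (image_le_of_opens T) (hT.image_of_isOpenImmersion W.ι)
    have hα : Function.Bijective fun c : Fin n → Γ(W.toScheme, T) => fun j => (W.ι.appIso T).inv (c j) :=
      (Equiv.piCongrRight fun _ : Fin n => Equiv.ofBijective _
        (ConcreteCategory.bijective_of_isIso (W.ι.appIso T).inv)).bijective
    constructor
    · intro z z' hzz
      obtain ⟨c, rfl⟩ := H29Fitt.exists_eq_sum_gen n T z
      obtain ⟨c', rfl⟩ := H29Fitt.exists_eq_sum_gen n T z'
      have h := congrArg (M.restrictAppIso W.ι T).hom hzz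
      rw [basisHom_sum, basisHom_sum] at h
      rw [hα.1 (hbT.1 h)]
    · intro y
      obtain ⟨c, hc⟩ := (hbT.comp hα).2 ((M.restrictAppIso W.ι T).hom y)
      refine ⟨∑ j, c j • H29Fitt.gen W.toScheme n j T,
        (ConcreteCategory.bijective_of_isIso (M.restrictAppIso W.ι T).hom).1 ?_⟩
      rw [basisHom_sum]
      exact hc
  haveI : Mono (basisHom M b) := H11Tilde.mono_of_injective _ fun T z hz x hx => by
    obtain ⟨V, hV, hxV, hle⟩ := exists_isAffineOpen_mem_and_subset hx
    refine ⟨V, hle, hxV, (hc V hV).1 ?_⟩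
    rw [H11Tilde.app_map_apply, hz, map_zero, map_zero]
  haveI : Epi (basisHom M b) := H11Tilde.epi_of_locally_surjective _ fun T t x hx => by
    obtain ⟨V, hV, hxV, hle⟩ := exists_isAffineOpen_mem_and_subset hx
    exact ⟨V, hle, hxV, (hc V hV).2 _⟩
  haveI : IsIso (basisHom M b) := isIso_of_mono_of_epi _
  exact ⟨(asIso (basisHom M b)).symm⟩

/-- A trivialisation gives sections forming a basis on every open below. -/
theorem exists_basis_of_iso (e : M.restrict W.ι ≅ FlatMod.freeMod W.toScheme n) :
    ∃ b : Fin n → Γ(M, W), ∀ (V : X.Opens) (h : V ≤ W),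
      Function.Bijective fun c : Fin n → Γ(X, V) => ∑ j, c j • M.presheaf.map (homOfLE h).op (b j) := by
  let b : Fin n → Γ(M, W) := fun j => M.presheaf.map (homOfLE W.ι_image_top.ge).op
    ((M.restrictAppIso W.ι ⊤).hom (e.inv.app ⊤ (H29Fitt.gen W.toScheme n j ⊤)))
  refine ⟨b, fun V h => ?_⟩
  obtain ⟨T, rfl⟩ : ∃ T : W.toScheme.Opens, V = W.ι ''ᵁ T := ⟨W.ι ⁻¹ᵁ V, by
    rw [Scheme.Hom.image_preimage_eq_opensRange_inf, Scheme.Opens.opensRange_ι, inf_eq_right.2 h]⟩
  let L : Γ(FlatMod.freeMod W.toScheme n, T) → Γ(M, W.ι ''ᵁ T) :=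
    fun z => (M.restrictAppIso W.ι T).hom (e.inv.app T z)
  have hL : Function.Bijective L := (ConcreteCategory.bijective_of_isIso (M.restrictAppIso W.ι T).hom).comp
    (ConcreteCategory.bijective_of_isIso (e.inv.app T))
  have hgen : ∀ j, L (H29Fitt.gen W.toScheme n j T) = M.presheaf.map (homOfLE h).op (b j) := by
    intro j
    simp only [L, b]
    rw [← H29Fitt.res_gen n j (le_top : T ≤ ⊤), H11Tilde.app_map_apply]
    show M.presheaf.map _ _ = M.presheaf.map _ (M.presheaf.map _ _)
    rw [← ConcreteCategory.comp_apply (f := M.presheaf.map (homOfLE W.ι_image_top.ge).op), ← Functor.map_comp]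
    rfl
  have hsum : Function.Bijective fun c : Fin n → Γ(W.toScheme, T) => ∑ j, c j • H29Fitt.gen W.toScheme n j T :=
    ⟨fun c c' hcc => sub_eq_zero.1 (H29Fitt.gen_independent n T (c - c') (by
      simp only [Pi.sub_apply, sub_smul, Finset.sum_sub_distrib]
      exact sub_eq_zero.2 hcc)), H29Fitt.exists_eq_sum_gen n T⟩
  have hα : Function.Bijective fun c : Fin n → Γ(X, W.ι ''ᵁ T) => fun j => (W.ι.appIso T).hom (c j) :=
    (Equiv.piCongrRight fun _ : Fin n => Equiv.ofBijective _
      (ConcreteCategory.bijective_of_isIso (W.ι.appIso T).hom)).bijective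
  convert (hL.comp hsum).comp hα using 1
  funext c
  simp only [Function.comp_apply, L, map_sum, Scheme.Modules.Hom.app_smul]
  refine Finset.sum_congr rfl fun j _ => ?_
  erw [Scheme.Modules.smul_restrictAppIso_hom_apply, Iso.hom_inv_id_apply]
  rw [← hgen j]

end Groth.Agent.H27LogNCD
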