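import Groth.Agent.H27LogNCD.Frame
import Mathlib

/-!
# Existence of `Ω¹(log D)`
-/

set_option autoImplicit false
set_option linter.style.haveILetI false
set_option backward.isDefEq.respectTransparency false

universe u

open CategoryTheory CategoryTheory.Limits AlgebraicGeometry TopologicalSpace Opposite

namespace Groth.Agent.H27LogNCD

variable {X S : Scheme.{u}} {r : ℕ} (D : Fin r → X.IdealSheafData) {f : X ⟶ S} {Ω : X.Modules}
  (d : OmegaSh.Der f Ω) (hd : OmegaSh.IsUniversal d) (hD : LogNCD.IsNCD D f)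

include hd hD in
theorem eq_zero_of_prod_smul {U : X.Opens} (hU : IsAffineOpen U) {g : Fin r → Γ(X, U)}
    (hI : ∀ i, (D i).ideal ⟨U, hU⟩ = Ideal.span {g i}) {s : Γ(logSheaf D d hd hD, U)}
    (hs : (∏ i, g i) • s = 0) : s = 0 := by
  refine logι_injective D d hd hD U ?_
  rw [map_zero]
  refine eq_zero_of_smul (isUnit_app_prod hU hI) ?_
  rw [← Scheme.Modules.Hom.app_smul, hs, map_zero]

theorem exists_dl {U : X.Opens} (hU : IsAffineOpen U) {g : Fin r → Γ(X, U)}
    (hI : ∀ i, (D i).ideal ⟨U, hU⟩ = Ideal.span {g i}) :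
    ∃ dl : Fin r → Γ(logSheaf D d hd hD, U),
      (∀ i, g i • dl i = (logIncl D d hd hD).app U (d.app U (g i))) ∧
      (∀ i, Rep D d g ((logι D d hd hD).app U (dl i)) 0 (Pi.single i 1)) ∧
      (∀ i j, (logRes D d hd hD j).app U (dl i) = cls D j U ((Pi.single i 1 : Fin r → Γ(X, U)) j)) := by
  classical
  have hu : ∀ i, IsUnit ((U0 D).ι.app U (g i)) := fun i => isUnit_app hU (hI i) fun x hx => mem_U0.1 hx i
  have hdiv : ∀ i, ∃ s : Γ(sing D Ω, U), g i • s = (jSing D Ω).app U (d.app U (g i)) := fun i => by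
    refine ⟨(show Γ(Ω.restrict (U0 D).ι, (U0 D).ι ⁻¹ᵁ U) from
      (↑(hu i).unit⁻¹ : Γ((U0 D).toScheme, (U0 D).ι ⁻¹ᵁ U)) •
        (show Γ(Ω.restrict (U0 D).ι, (U0 D).ι ⁻¹ᵁ U) from (jSing D Ω).app U (d.app U (g i)))), ?_⟩
    rw [smul_sing]
    let m : Γ(Ω.restrict (U0 D).ι, (U0 D).ι ⁻¹ᵁ U) := (jSing D Ω).app U (d.app U (g i))
    exact (smul_smul ((U0 D).ι.app U (g i) : Γ((U0 D).toScheme, (U0 D).ι ⁻¹ᵁ U)) _ m).trans
      (by rw [IsUnit.mul_val_inv]; exact one_smul _ m)
  choose s hs using hdiv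
  have hrep : ∀ i, Rep D d g (s i) 0 (Pi.single i 1) := fun i => by
    rw [Rep, smul_zero, zero_add, Finset.sum_eq_single i (fun k _ hk => by
      rw [Pi.single_eq_of_ne hk, zero_mul, zero_smul]) (fun hn => absurd (Finset.mem_univ i) hn),
      Pi.single_eq_same, one_mul, Scheme.Modules.Hom.app_smul, ← hs i, smul_smul, mul_comm, mul_others]
  have hlog : ∀ i, IsLog d (s i) := fun i x hx =>
    ⟨U, hU, le_rfl, g, hx, hI, 0, Pi.single i 1, by
      rw [show (homOfLE (le_refl U)).op = 𝟙 _ from rfl, CategoryTheory.Functor.map_id]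
      exact hrep i⟩
  choose dl hdl using fun i => exists_logι D d hd hD (hlog i)
  refine ⟨dl, fun i => logι_injective D d hd hD U ?_, fun i => (hdl i).symm ▸ hrep i, fun i j => ?_⟩
  · rw [Scheme.Modules.Hom.app_smul, hdl, hs, logι_logIncl]
  · have h1 := logRes_spec D d hd hD j (dl i) U hU le_rfl g hI 0 (Pi.single i 1) (by
      rw [show (homOfLE (le_refl U)).op = 𝟙 _ from rfl, CategoryTheory.Functor.map_id]
      exact (hdl i).symm ▸ hrep i)
    rwa [show (homOfLE (le_refl U)).op = 𝟙 _ from rfl, CategoryTheory.Functor.map_id] at h1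

theorem gen_dl {U : X.Opens} (hU : IsAffineOpen U) {g : Fin r → Γ(X, U)}
    (hI : ∀ i, (D i).ideal ⟨U, hU⟩ = Ideal.span {g i}) {dl : Fin r → Γ(logSheaf D d hd hD, U)}
    (hres : ∀ i j, (logRes D d hd hD j).app U (dl i) = cls D j U ((Pi.single i 1 : Fin r → Γ(X, U)) j))
    (s : Γ(logSheaf D d hd hD, U)) :
    ∃ (η : Γ(Ω, U)) (a : Fin r → Γ(X, U)), s = (logIncl D d hd hD).app U η + ∑ i, a i • dl i := by
  choose a ha using fun i => cls_surjective hU i ((logRes D d hd hD i).app U s)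
  let t := s - ∑ i, a i • dl i
  have ht : ∀ j, (logRes D d hd hD j).app U t = 0 := fun j => by
    simp only [t, map_sub, map_sum, Scheme.Modules.Hom.app_smul, hres]
    rw [Finset.sum_eq_single j (fun i _ hij => by rw [Pi.single_eq_of_ne hij.symm, cls_zero, smul_zero])
      (fun hn => absurd (Finset.mem_univ j) hn), Pi.single_eq_same, ← cls_mul, mul_one, ha, sub_self]
  -- locally `t` is a form
  suffices ∃ η, (logIncl D d hd hD).app U η = t by
    obtain ⟨η, hη⟩ := this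
    exact ⟨η, a, by rw [hη]; simp [t]⟩
  have hloc : ∀ x : U, ∃ (V : X.Opens) (e : V ≤ U) (η : Γ(Ω, V)), x.1 ∈ V ∧
      (logIncl D d hd hD).app V η = (logSheaf D d hd hD).presheaf.map (homOfLE e).op t := by
    intro x
    obtain ⟨W₁, g₁, hx₁, hle, -, hc⟩ := exists_chart hd hD x.1 U x.2
    obtain ⟨V, e, e₁, hxV, hV, η, b, hrep⟩ := (isLog_logι D d hd hD U t).normal hc x.2 hx₁
    have hd' : ∀ i, rs e₁ (g₁ i) ∣ b i := fun i => by
      have h1 := (logRes_spec D d hd hD i t V hV e _ (hc V hV e₁).ideal η b hrep).symm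
      rw [ht i, map_zero] at h1
      have h2 := mem_ideal_of_cls_eq_zero hV h1
      rwa [(hc V hV e₁).ideal i, Ideal.mem_span_singleton] at h2
    choose c hc' using hd'
    refine ⟨V, e, η + ∑ i, c i • d.app V (rs e₁ (g₁ i)), hxV, ?_⟩
    refine (sub_eq_zero.1 (eq_zero_of_prod_smul D d hd hD hV (hc V hV e₁).ideal
      (logι_injective D d hd hD V ?_))).symm
    rw [map_zero, Scheme.Modules.Hom.app_smul, map_sub, smul_sub, app_mapM, logι_logIncl, sub_eq_zero]
    refine hrep.trans ?_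
    rw [← Scheme.Modules.Hom.app_smul, smul_add, Finset.smul_sum]
    congr 2
    refine Finset.sum_congr rfl fun i _ => ?_
    rw [smul_smul, hc' i, ← mul_others (fun k => rs e₁ (g₁ k)) i]
    congr 1
    ring
  choose V e η hxV hη using hloc
  let M : TopCat.Sheaf Ab.{u} X := ⟨Ω.presheaf, Ω.isSheaf⟩
  obtain ⟨w, hw, -⟩ := M.existsUnique_gluing' V U (fun x => homOfLE (e x))
    (fun x hx => Opens.mem_iSup.2 ⟨⟨x, hx⟩, hxV ⟨x, hx⟩⟩) η (fun x z => logIncl_injective D d hd hD _ (by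
      rw [show (Opens.infLELeft (V x) (V z)) = homOfLE inf_le_left from Subsingleton.elim _ _,
        show (Opens.infLERight (V x) (V z)) = homOfLE inf_le_right from Subsingleton.elim _ _]
      show (logIncl D d hd hD).app _ (Ω.presheaf.map _ _) = (logIncl D d hd hD).app _ (Ω.presheaf.map _ _)
      rw [app_mapM, app_mapM, hη, hη, map_mapM, map_mapM]))
  refine ⟨w, H11Tilde.eq_of_locally _ _ fun x hx => ⟨V ⟨x, hx⟩, e _, hxV _, ?_⟩⟩
  rw [← app_mapM, ← hη]
  exact congrArg ((logIncl D d hd hD).app _) (hw ⟨x, hx⟩)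

include hd hD in
theorem nonempty_logMod : Nonempty (LogNCD.LogMod d D) := by
  haveI : Mono (logIncl D d hd hD) := H11Tilde.mono_of_injective _ fun W s hs x hx =>
    ⟨W, le_rfl, hx, by
      rw [logIncl_injective D d hd hD W (hs.trans (map_zero _).symm), map_zero]⟩
  refine ⟨⟨logSheaf D d hd hD, logIncl D d hd hD, logRes D d hd hD, inferInstance,
    logRes_logIncl D d hd hD, fun U g hI => ⟨fun x hx => eq_zero_of_prod_smul D d hd hD U.2 hI hx, ?_⟩⟩⟩
  obtain ⟨dl, hdl, -, hres⟩ := exists_dl D d hd hD U.2 hI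
  refine ⟨dl, hdl, ?_, fun i => (hres i i).trans (by rw [Pi.single_eq_same]; rfl),
    fun i j hij => (hres i j).trans (by rw [Pi.single_eq_of_ne hij.symm]; exact cls_zero j U.1)⟩
  refine Submodule.eq_top_iff'.2 fun s => ?_
  obtain ⟨η, a, rfl⟩ := gen_dl D d hd hD U.2 hI hres s
  exact Submodule.add_mem _ (Submodule.subset_span (Or.inl ⟨η, rfl⟩))
    (Submodule.sum_mem _ fun i _ => Submodule.smul_mem _ _ (Submodule.subset_span (Or.inr ⟨i, rfl⟩)))

end Groth.Agent.H27LogNCD
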