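import Groth.Agent.H27LogNCD.Abstract
import Groth.Agent.H17.PrinOmega
import Mathlib

/-!
# Removing a component of the divisor
-/

set_option autoImplicit false
set_option linter.style.haveILetI false
set_option backward.isDefEq.respectTransparency false

universe u

open CategoryTheory CategoryTheory.Limits AlgebraicGeometry TopologicalSpace Opposite

namespace Groth.Agent.H27LogNCD

variable {X S : Scheme.{u}} {r : ℕ} {f : X ⟶ S} {Ω : X.Modules} {d : OmegaSh.Der f Ω}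
  {D : Fin (r + 1) → X.IdealSheafData} {i₀ : Fin (r + 1)}
  (hd : OmegaSh.IsUniversal d) (hD : LogNCD.IsNCD D f)

/-- Affine opens on which every component is principal. -/
def IsPrincipal (D : Fin (r + 1) → X.IdealSheafData) (V : X.Opens) : Prop :=
  ∃ (hV : IsAffineOpen V) (g : Fin (r + 1) → Γ(X, V)), ∀ i, (D i).ideal ⟨V, hV⟩ = Ideal.span {g i}

include hd hD in
theorem exists_principal (W : X.Opens) (x : X) (hx : x ∈ W) : ∃ V, IsPrincipal D V ∧ x ∈ V ∧ V ≤ W := by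
  obtain ⟨V, hV, g, hxV, hle, hI⟩ := exists_frame_ideal hd hD x W hx
  exact ⟨V, ⟨hV, g, hI⟩, hxV, hle⟩

include hd hD in
theorem exists_isSubLog (Λ : LogNCD.LogMod d D) (Λ' : LogNCD.LogMod d (D ∘ i₀.succAbove)) :
    ∃ κ : Λ'.L ⟶ Λ.L, LogNCD.IsSubLog Λ' Λ κ := by
  have hex : ∀ V, IsPrincipal D V → ∀ t : Γ(Λ'.L, V), ∃ s, IsIncl Λ Λ' t s := fun V hV t => by
    obtain ⟨hV, g, hI⟩ := hV
    exact exists_isIncl Λ Λ' hV hI t
  choose ν hν using hex
  obtain ⟨κ, hκ⟩ := H17.PrinOmega.exists_hom_of_basis Λ'.L Λ.L (IsPrincipal D)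
    (fun W x hx => exists_principal hd hD W x hx)
    (fun V hV =>
      { toFun := ν V hV
        map_add' := fun t t' => IsIncl.add' Λ Λ' (hν V hV t) (hν V hV t') (hν V hV (t + t'))
        map_smul' := fun c t => (hν V hV (c • t)).unique ((hν V hV t).smul' c) })
    (fun V V' h h' e t => (hν V' h' _).unique ((hν V h t).restrict e h'.1))
  refine ⟨κ, Scheme.Modules.hom_ext _ _ fun W => ?_⟩
  ext η
  refine H11Tilde.eq_of_locally _ _ fun x hx => ?_
  obtain ⟨V, hV, hxV, e⟩ := exists_principal hd hD W x hx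
  refine ⟨V, e, hxV, ?_⟩
  rw [← app_mapM, ← app_mapM, Scheme.Modules.Hom.comp_app, ConcreteCategory.comp_apply, hκ V hV]
  refine (hν V hV _).unique ?_
  obtain ⟨hVa, g, hI⟩ := hV
  exact ⟨hVa, g, hI, (∏ k, g (i₀.succAbove k)) • Ω.presheaf.map (homOfLE e).op η,
    (Scheme.Modules.Hom.app_smul _ _ _).symm, (Scheme.Modules.Hom.app_smul _ _ _).symm⟩

theorem app_subLog {Λ : LogNCD.LogMod d D} {Λ' : LogNCD.LogMod d (D ∘ i₀.succAbove)} {κ : Λ'.L ⟶ Λ.L}
    (hκ : LogNCD.IsSubLog Λ' Λ κ) (V : X.Opens) (η : Γ(Ω, V)) :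
    κ.app V (Λ'.ι.app V η) = Λ.ι.app V η := by
  rw [← ConcreteCategory.comp_apply, ← Scheme.Modules.Hom.comp_app]
  exact congrArg (fun φ : Ω ⟶ Λ.L => φ.app V η) hκ

theorem subLog_frame {Λ : LogNCD.LogMod d D} {Λ' : LogNCD.LogMod d (D ∘ i₀.succAbove)} {κ : Λ'.L ⟶ Λ.L}
    (hκ : LogNCD.IsSubLog Λ' Λ κ) {V : X.Opens} {g : Fin (r + 1) → Γ(X, V)} {dl : Fin (r + 1) → Γ(Λ.L, V)}
    {dl' : Fin r → Γ(Λ'.L, V)} (hf : IsFrame d Λ.ι Λ.res V g dl)
    (hf' : IsFrame d Λ'.ι Λ'.res V (fun k => g (i₀.succAbove k)) dl') (k : Fin r) :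
    κ.app V (dl' k) = dl (i₀.succAbove k) :=
  logMod_smul_cancel Λ hf.affine hf.ideal (i₀.succAbove k) (by
    rw [← Scheme.Modules.Hom.app_smul, hf'.smul_dl k, app_subLog hκ, hf.smul_dl])

include hd hD in
theorem shortExact_subLog (Λ : LogNCD.LogMod d D) (Λ' : LogNCD.LogMod d (D ∘ i₀.succAbove))
    (κ : Λ'.L ⟶ Λ.L) (hκ : LogNCD.IsSubLog Λ' Λ κ) (h : κ ≫ Λ.res i₀ = 0) :
    (ShortComplex.mk κ (Λ.res i₀) h).ShortExact := by
  haveI : Mono κ := H11Tilde.mono_of_injective κ fun W t ht x hx => by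
    obtain ⟨V, hle, g, hxV, hVW, hI⟩ := exists_frame_ideal hd hD x W hx
    obtain ⟨dl, hf⟩ := logMod_frame Λ hle hI
    obtain ⟨dl', hf'⟩ := logMod_frame Λ' hle (g := fun k => g (i₀.succAbove k)) fun k => hI (i₀.succAbove k)
    refine ⟨V, hVW, hxV, ?_⟩
    obtain ⟨η, a, ha⟩ := hf'.gen (Λ'.L.presheaf.map (homOfLE hVW).op t)
    have h0 : κ.app V (Λ'.L.presheaf.map (homOfLE hVW).op t) = 0 := by rw [app_mapM, ht, map_zero]
    have hres : ∀ k, g (i₀.succAbove k) ∣ a k := fun k => by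
      rw [← Ideal.mem_span_singleton, ← hI (i₀.succAbove k)]
      refine mem_ideal_of_cls_eq_zero hle ?_
      have hb := congrArg ((Λ.res (i₀.succAbove k)).app V) h0
      rw [ha, map_add, map_sum, app_subLog hκ] at hb
      simp only [Scheme.Modules.Hom.app_smul, subLog_frame hκ hf hf'] at hb
      have hb2 := (hf.res_sum Λ.res_ι η (i₀.insertNth 0 a) (i₀.succAbove k)).symm
      rw [Fin.sum_univ_succAbove _ i₀] at hb2
      simp only [Fin.insertNth_apply_succAbove, Fin.insertNth_apply_same, zero_smul, zero_add] at hb2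
      rw [hb2]
      exact hb.trans (map_zero _)
    choose c hc using hres
    have ht' : Λ'.L.presheaf.map (homOfLE hVW).op t =
        Λ'.ι.app V (η + ∑ k, c k • d.app V (g (i₀.succAbove k))) := by
      rw [ha, map_add, map_sum]
      congr 1
      refine Finset.sum_congr rfl fun k _ => ?_
      rw [Scheme.Modules.Hom.app_smul, ← hf'.smul_dl, smul_smul, hc k, mul_comm]
    rw [ht', app_subLog hκ] at h0
    rw [ht', ι_injective Λ V (h0.trans (map_zero _).symm), map_zero]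
  haveI : Epi (Λ.res i₀) := H11Tilde.epi_of_locally_surjective _ fun W t x hx => by
    obtain ⟨V, g, dl, hxV, hle, hf⟩ := exists_frame_near hd hD Λ x W hx
    obtain ⟨a, ha⟩ := cls_surjective hf.affine i₀ ((ClSub.quotMod (D i₀)).presheaf.map (homOfLE hle).op t)
    refine ⟨V, hle, hxV, a • dl i₀, ?_⟩
    rw [Scheme.Modules.Hom.app_smul, hf.res_dl, ← cls_mul, mul_one, ha]
  exact ⟨H11Tilde.exact_of_locally _ fun W t ht x hx => by
    obtain ⟨V, hle, g, hxV, hVW, hI⟩ := exists_frame_ideal hd hD x W hx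
    obtain ⟨dl, hf⟩ := logMod_frame Λ hle hI
    obtain ⟨dl', hf'⟩ := logMod_frame Λ' hle (g := fun k => g (i₀.succAbove k)) fun k => hI (i₀.succAbove k)
    refine ⟨V, hVW, hxV, ?_⟩
    obtain ⟨η, a, ha⟩ := hf.gen (Λ.L.presheaf.map (homOfLE hVW).op t)
    have hd0 : g i₀ ∣ a i₀ := by
      rw [← Ideal.mem_span_singleton, ← hI i₀]
      refine mem_ideal_of_cls_eq_zero hle ?_
      rw [← hf.res_sum Λ.res_ι η a i₀, ← ha, app_mapM]
      exact (congrArg _ ht).trans (map_zero _)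
    obtain ⟨c, hc⟩ := hd0
    refine ⟨Λ'.ι.app V (η + c • d.app V (g i₀)) + ∑ k, a (i₀.succAbove k) • dl' k, ?_⟩
    show κ.app V _ = _
    rw [map_add, map_sum, app_subLog hκ, ha, Fin.sum_univ_succAbove _ i₀, map_add, add_assoc]
    simp only [Scheme.Modules.Hom.app_smul, subLog_frame hκ hf hf']
    congr 2
    rw [← hf.smul_dl, smul_smul, hc, mul_comm]⟩

end Groth.Agent.H27LogNCD
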